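/-
An abelian 2-group `A` acting on a group `Y` of odd order: generation by the centralisers of the
cocyclic subgroups and by their commutators with `A`.
-/
import Cfsg.Agent.H1.CoprimeAction
import Cfsg.Agent.H2.CoprimeAbelian
import Cfsg.Agent.H31.GenBound
import Cfsg.Agent.H9.Eigen

set_option autoImplicit false
set_option linter.unusedSectionVars false

open Subgroup
open scoped commutatorElement

namespace H2.FixedGen

universe u

variable {G : Type u} [Group G]

/-- `K ≤ B` and `B / K` is cyclic. -/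
def CycQ (K B : Subgroup G) : Prop :=
  K ≤ B ∧ ∃ b ∈ B, ∀ x ∈ B, ∃ i : ℤ, (b ^ i)⁻¹ * x ∈ K

theorem cycQ_self (B : Subgroup G) : CycQ B B :=
  ⟨le_rfl, 1, one_mem _, fun x hx => ⟨0, by simpa using hx⟩⟩

theorem le_normalizer_of_comm {A K : Subgroup G} (hA : ∀ a ∈ A, ∀ b ∈ A, a * b = b * a)
    (hK : K ≤ A) : A ≤ normalizer (K : Set G) := by
  intro a ha
  rw [mem_normalizer_iff]
  have key : ∀ x ∈ A, a * x * a⁻¹ = x := fun x hx => by rw [hA a ha x hx, mul_inv_cancel_right]
  refine fun x => ⟨fun hx => by rw [key x (hK hx)]; exact hx, fun hx => ?_⟩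
  have e : a * (a * x * a⁻¹) * a⁻¹ = a * x * a⁻¹ := key _ (hK hx)
  rwa [show a * x * a⁻¹ = x by
    have := mul_left_cancel (mul_right_cancel e)
    exact this] at hx

theorem le_normalizer_fixed {A X K : Subgroup G} (hA : ∀ a ∈ A, ∀ b ∈ A, a * b = b * a)
    (hK : K ≤ A) (hX : A ≤ normalizer (X : Set G)) :
    A ≤ normalizer ((X ⊓ centralizer (K : Set G) : Subgroup G) : Set G) := by
  intro a ha
  rw [mem_normalizer_iff]
  refine fun x => and_congr ((mem_normalizer_iff.mp (hX ha)) x) ?_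
  simp only [Subgroup.mem_carrier, SetLike.mem_coe, mem_centralizer_iff]
  refine forall_congr' fun k => forall_congr' fun hk => ?_
  have hka : a * k * a⁻¹ = k := by rw [hA a ha k (hK hk), mul_inv_cancel_right]
  have e1 : k * (a * x * a⁻¹) = a * (k * x) * a⁻¹ := by
    conv_lhs => rw [← hka]
    group
  have e2 : (a * x * a⁻¹) * k = a * (x * k) * a⁻¹ := by
    conv_lhs => rw [← hka]
    group
  rw [e1, e2, mul_left_inj, mul_right_inj]

variable [Finite G]

/-- A non-cyclic quotient `B/K` contains a four-group. -/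
theorem exists_four {B K : Subgroup G} (hBc : ∀ a ∈ B, ∀ b ∈ B, a * b = b * a) (hB : IsPGroup 2 B)
    (hK : K ≤ B) (hnc : ¬ CycQ K B) :
    ∃ x ∈ B, ∃ y ∈ B, x * x ∈ K ∧ y * y ∈ K ∧ x ∉ K ∧ y ∉ K ∧ x * y ∉ K := by
  letI : CommGroup B := { (inferInstance : Group B) with
    mul_comm := fun a b => Subtype.ext (hBc a a.2 b b.2) }
  by_contra hcon
  push Not at hcon
  refine hnc ⟨hK, ?_⟩
  let N := K.subgroupOf B
  have hz : ∃ z : B ⧸ N, ∀ a : B ⧸ N, a ^ 2 = 1 → a = 1 ∨ a = z := by
    by_cases h : ∃ a : B ⧸ N, a ^ 2 = 1 ∧ a ≠ 1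
    · obtain ⟨z, hz2, hz1⟩ := h
      refine ⟨z, fun a ha => ?_⟩
      by_contra hne
      push Not at hne
      obtain ⟨hne1, hnez⟩ := hne
      induction a using QuotientGroup.induction_on with
      | _ a => ?_
      induction z using QuotientGroup.induction_on with
      | _ z => ?_
      rw [pow_two, ← QuotientGroup.mk_mul, QuotientGroup.eq_one_iff, mem_subgroupOf] at ha hz2
      rw [Ne, QuotientGroup.eq_one_iff, mem_subgroupOf] at hne1 hz1
      have hp := hcon a a.2 z z.2 ha hz2 hne1 hz1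
      refine hnez (QuotientGroup.eq.mpr (mem_subgroupOf.mpr ?_))
      have : (((a : B)⁻¹ * z : B) : G) = ((a : G) * a)⁻¹ * ((a : G) * z) := by
        push_cast; group
      rw [this]
      exact mul_mem (inv_mem ha) hp
    · push Not at h
      exact ⟨1, fun a ha => Or.inl (h a ha)⟩
  obtain ⟨z, hz⟩ := hz
  haveI := H31.GenBound.cyclic_of_unique_involution (hB.to_quotient N) hz
  obtain ⟨g, hg⟩ := IsCyclic.exists_generator (α := B ⧸ N)
  induction g using QuotientGroup.induction_on with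
  | _ b => ?_
  refine ⟨b, b.2, fun x hx => ?_⟩
  obtain ⟨i, hi⟩ := Subgroup.mem_zpowers_iff.mp (hg (QuotientGroup.mk (⟨x, hx⟩ : B)))
  refine ⟨i, ?_⟩
  rw [← QuotientGroup.mk_zpow, QuotientGroup.eq, mem_subgroupOf] at hi
  simpa using hi

/-- `X` is generated by the centralisers of the `K ≤ B` with `B / K` cyclic. -/
theorem le_of_fixed_cycQ {B : Subgroup G} (hBc : ∀ a ∈ B, ∀ b ∈ B, a * b = b * a)
    (hB : IsPGroup 2 B) {H : Subgroup G} :
    ∀ (X K : Subgroup G), Odd (Nat.card X) → B ≤ normalizer (X : Set G) → K ≤ B →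
      X ≤ centralizer (K : Set G) → (∀ K', CycQ K' B → X ⊓ centralizer (K' : Set G) ≤ H) →
      X ≤ H := by
  intro X K
  induction hn : Nat.card B - Nat.card K using Nat.strong_induction_on generalizing X K with
  | _ n ih =>
    intro hodd hBX hKB hXK hH
    subst hn
    by_cases hc : CycQ K B
    · exact (le_inf le_rfl hXK).trans (hH K hc)
    obtain ⟨x, hx, y, hy, hx2, hy2, hxK, hyK, hxyK⟩ := exists_four hBc hB hKB hc
    have key : ∀ z ∈ B, z ∉ K → ∀ v ∈ X, z * v * z⁻¹ = v → v ∈ H := by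
      intro z hz hzK v hv hzv
      set K' := K ⊔ zpowers z with hK'
      have hK'B : K' ≤ B := sup_le hKB ((zpowers_le).mpr hz)
      have hlt : Nat.card K < Nat.card K' := by
        refine lt_of_le_of_ne (card_le_of_le le_sup_left) fun e => hzK ?_
        rw [eq_of_le_of_card_ge (le_sup_left : K ≤ K') e.ge]
        exact mem_sup_right (mem_zpowers z)
      have hle := card_le_of_le hK'B
      refine ih (Nat.card B - Nat.card K') (by omega) (X ⊓ centralizer (K' : Set G)) K' rfl
        (hodd.of_dvd_nat (card_dvd_of_le inf_le_left))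
        (le_normalizer_fixed hBc hK'B hBX) hK'B inf_le_right
        (fun K'' h'' => (inf_le_inf_right _ inf_le_left).trans (hH K'' h'')) ⟨hv, ?_⟩
      have hle' : K' ≤ centralizer ({v} : Set G) := sup_le (fun k hk =>
          mem_centralizer_singleton_iff.mpr (mem_centralizer_iff.mp (hXK hv) k hk))
        ((zpowers_le).mpr (mem_centralizer_singleton_iff.mpr (mul_inv_eq_iff_eq_mul.mp hzv)))
      exact mem_centralizer_iff.mpr fun k hk => mem_centralizer_singleton_iff.mp (hle' hk)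
    -- the two automorphisms
    let au : ∀ z, z ∈ B → (X ≃* X) := fun z hz =>
      { toFun := fun v => ⟨z * v * z⁻¹, (mem_normalizer_iff.mp (hBX hz) v).mp v.2⟩
        invFun := fun v => ⟨z⁻¹ * v * z⁻¹⁻¹, (mem_normalizer_iff.mp (hBX (inv_mem hz)) v).mp v.2⟩
        left_inv := fun v => Subtype.ext (by simp [mul_assoc])
        right_inv := fun v => Subtype.ext (by simp [mul_assoc])
        map_mul' := fun v w => Subtype.ext (by simp [mul_assoc]) }
    have hinv : ∀ z (hz : z ∈ B), z * z ∈ K → ∀ v, au z hz (au z hz v) = v := by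
      intro z hz hz2 v
      apply Subtype.ext
      show z * (z * v * z⁻¹) * z⁻¹ = v
      calc z * (z * v * z⁻¹) * z⁻¹ = (z * z) * v * (z * z)⁻¹ := by group
        _ = v := by rw [mem_centralizer_iff.mp (hXK v.2) _ hz2, mul_inv_cancel_right]
    intro v hv
    have hgen := Cfsg.Agent.H9.mem_closure_isEigen hodd [au x hx, au y hy]
      (fun a ha => by
        simp only [List.mem_cons, List.not_mem_nil, or_false] at ha
        rcases ha with rfl | rfl
        exacts [hinv x hx hx2, hinv y hy hy2])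
      (fun a ha b hb w => by
        have hcomm : ∀ s (hs : s ∈ B) t (ht : t ∈ B),
            au s hs (au t ht w) = au t ht (au s hs w) := fun s hs t ht => Subtype.ext (by
          show s * (t * w * t⁻¹) * s⁻¹ = t * (s * w * s⁻¹) * t⁻¹
          calc s * (t * w * t⁻¹) * s⁻¹ = (s * t) * w * (s * t)⁻¹ := by group
            _ = (t * s) * w * (t * s)⁻¹ := by rw [hBc s hs t ht]
            _ = _ := by group)
        simp only [List.mem_cons, List.not_mem_nil, or_false] at ha hb
        rcases ha with rfl | rfl <;> rcases hb with rfl | rfl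
        exacts [hcomm x hx x hx, hcomm x hx y hy, hcomm y hy x hx, hcomm y hy y hy])
      ⟨v, hv⟩
    suffices h : Subgroup.closure {w : X | Cfsg.Agent.H9.IsEigen [au x hx, au y hy] w} ≤
        H.subgroupOf X from mem_subgroupOf.mp (h hgen)
    rw [closure_le]
    intro w hw
    rw [SetLike.mem_coe, mem_subgroupOf]
    have h1 := (hw (au x hx) (by simp)).imp (congrArg Subtype.val) (congrArg Subtype.val)
    have h2 := (hw (au y hy) (by simp)).imp (congrArg Subtype.val) (congrArg Subtype.val)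
    rcases h1 with e1 | e1
    · exact key x hx hxK w w.2 e1
    rcases h2 with e2 | e2
    · exact key y hy hyK w w.2 e2
    refine key (x * y) (mul_mem hx hy) hxyK w w.2 ?_
    change x * (w : G) * x⁻¹ = ((w⁻¹ : X) : G) at e1
    change y * (w : G) * y⁻¹ = ((w⁻¹ : X) : G) at e2
    calc x * y * (w : G) * (x * y)⁻¹ = x * (y * w * y⁻¹) * x⁻¹ := by group
      _ = (x * (w : G) * x⁻¹)⁻¹ := by rw [e2, coe_inv]; group
      _ = w := by rw [e1, coe_inv, inv_inv]

/-- `⁅C_Y(K), A⁆`. -/
def wSub (A Y K : Subgroup G) : Subgroup G := ⁅Y ⊓ centralizer (K : Set G), A⁆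

/-- The subgroup generated by the `C_Y(B) ∩ ⁅C_Y(K), A⁆`. -/
def jGen (A B Y : Subgroup G) : Subgroup G :=
  Subgroup.closure {x | x ∈ Y ∧ x ∈ centralizer (B : Set G) ∧ ∃ K, CycQ K B ∧ x ∈ wSub A Y K}

theorem mem_jGen {A B Y K : Subgroup G} {x : G} (h1 : x ∈ Y) (h2 : x ∈ centralizer (B : Set G))
    (hK : CycQ K B) (h3 : x ∈ wSub A Y K) : x ∈ jGen A B Y :=
  subset_closure ⟨h1, h2, K, hK, h3⟩

/-- The hypotheses. -/
structure Setup (A B Y : Subgroup G) : Prop where
  two : IsPGroup 2 A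
  comm : ∀ a ∈ A, ∀ b ∈ A, a * b = b * a
  le : B ≤ A
  odd : Odd (Nat.card Y)
  inv : A ≤ normalizer (Y : Set G)
  eq : ⁅Y, A⁆ = Y

namespace Setup

variable {A B Y : Subgroup G} (h : Setup A B Y)
include h

theorem sol : Group.IsSolvable A :=
  Group.isSolvable_of_comm fun a b => Subtype.ext (h.comm a a.2 b b.2)

theorem coprime {X : Subgroup G} (hX : X ≤ Y) : (Nat.card A).Coprime (Nat.card X) := by
  obtain ⟨n, hn⟩ := IsPGroup.iff_card.mp h.two
  rw [hn]
  exact Nat.Coprime.pow_left n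
    ((h.odd.of_dvd_nat (card_dvd_of_le hX)).coprime_two_left)

theorem wSub_le (K : Subgroup G) (hK : K ≤ A) : wSub A Y K ≤ Y ⊓ centralizer (K : Set G) :=
  H1.commutator_le_left_of_le_normalizer (le_normalizer_fixed h.comm hK h.inv)

theorem fixed_commutator (K : Subgroup G) (hK : K ≤ A) :
    wSub A Y K ⊔ (Y ⊓ centralizer (A : Set G)) = Y ⊓ centralizer (K : Set G) := by
  have := H1.commutator_sup_centralizer_eq (le_normalizer_fixed h.comm hK h.inv)
    (h.coprime inf_le_left) (Or.inl h.sol)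
  rwa [inf_assoc, inf_eq_right.mpr (centralizer_le (SetLike.coe_subset_coe.mpr hK))] at this

/-- `Y` is generated by the `⁅C_Y(K), A⁆`. -/
theorem le_of_wSub {H : Subgroup G} (hA : A ≤ normalizer (H : Set G))
    (hC : Y ⊓ centralizer (A : Set G) ≤ normalizer (H : Set G))
    (hH : ∀ K, CycQ K B → wSub A Y K ≤ H) : Y ≤ H := by
  have hY : Y ≤ H ⊔ (Y ⊓ centralizer (A : Set G)) :=
    le_of_fixed_cycQ (fun a ha b hb => h.comm a (h.le ha) b (h.le hb)) (h.two.to_le h.le) Y ⊥ h.odd
      (h.le.trans h.inv) bot_le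
      (fun y _ => mem_centralizer_iff.mpr fun k hk => by
        rw [Subgroup.mem_bot.mp hk, one_mul, mul_one])
      fun K hK => (h.fixed_commutator K (hK.1.trans h.le)).symm.le.trans
        (sup_le_sup_right (hH K hK) _)
  rw [← h.eq, commutator_le]
  intro y hy a ha
  obtain ⟨u, hu, c, hc, rfl⟩ := H1.exists_mul_of_mem_sup hC (hY hy)
  have e : ⁅u * c, a⁆ = ⁅u, a⁆ := by
    have hca := mem_centralizer_iff.mp hc.2 a ha
    simp only [commutatorElement_def, mul_inv_rev]
    calc u * c * a * (c⁻¹ * u⁻¹) * a⁻¹ = u * (c * a) * c⁻¹ * u⁻¹ * a⁻¹ := by group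
      _ = _ := by rw [← hca]; group
  rw [e]
  exact H1.commutator_le_left_of_le_normalizer hA (commutator_mem_commutator hu ha)

/-- The `⁅C_Y(K), A⁆` generate `Y`. -/
theorem gen : Y = ⨆ K : {K : Subgroup G // CycQ K B}, wSub A Y K := by
  refine le_antisymm (h.le_of_wSub ?_ ?_ fun K hK => le_iSup_of_le ⟨K, hK⟩ le_rfl)
    (iSup_le fun K => (h.wSub_le K.1 (K.2.1.trans h.le)).trans inf_le_left)
  · intro a ha
    rw [mem_normalizer_iff_map_conj_eq, Subgroup.map_iSup]
    exact iSup_congr fun K => mem_normalizer_iff_map_conj_eq.mp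
      (H1.right_le_normalizer_commutator ha)
  · intro c hc
    rw [mem_normalizer_iff_map_conj_eq, Subgroup.map_iSup]
    exact iSup_congr fun K => mem_normalizer_iff_map_conj_eq.mp
      (H1.left_le_normalizer_commutator
        ⟨hc.1, centralizer_le (SetLike.coe_subset_coe.mpr (K.2.1.trans h.le)) hc.2⟩)

theorem commutator_fixed_le_jGen : ⁅Y ⊓ centralizer (B : Set G), A⁆ ≤ jGen A B Y := fun _ hx =>
  mem_jGen (h.wSub_le B h.le hx).1 (h.wSub_le B h.le hx).2 (cycQ_self B) hx

omit h in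
theorem jGen_le : jGen A B Y ≤ Y ⊓ centralizer (B : Set G) :=
  (closure_le _).mpr fun _ hx => ⟨hx.1, hx.2.1⟩

/-- The key step: commutators of `U` with `Y` inside an abelian `V` give fixed points in the
generated subgroup. -/
theorem fixed_le_jGen {U V : Subgroup G} (hUY : U ≤ Y) (hAU : A ≤ normalizer (U : Set G))
    (hAV : A ≤ normalizer (V : Set G)) (hVU : V ≤ U) (hcen : ∀ u ∈ U, ∀ v ∈ V, u * v = v * u)
    (hcomm : ∀ u ∈ U, ∀ y ∈ Y, ⁅u, y⁆ ∈ V) (hV : V ≤ ⁅U, Y⁆) :
    V ⊓ centralizer (A : Set G) ≤ jGen A B Y := by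
  have hVY : V ≤ Y := hVU.trans hUY
  haveI : IsMulCommutative V := ⟨⟨fun a b => Subtype.ext (hcen a (hVU a.2) b b.2)⟩⟩
  set T : Subgroup G := ⁅V, A⁆ ⊔ ⨆ K : {K : Subgroup G // CycQ K B}, V ⊓ wSub A Y K with hT
  have hTV : T ≤ V :=
    sup_le (H1.commutator_le_left_of_le_normalizer hAV) (iSup_le fun K => inf_le_left)
  have hmul : ∀ w ∈ Y, ∀ u ∈ U, ∀ u' ∈ U, ⁅u * u', w⁆ = ⁅u', w⁆ * ⁅u, w⁆ := by
    intro w hw u hu u' hu'
    have := hcen u hu _ (hcomm u' hu' w hw)
    simp only [commutatorElement_def, mul_inv_rev] at this ⊢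
    calc u * u' * w * (u'⁻¹ * u⁻¹) * w⁻¹
        = (u * (u' * w * u'⁻¹ * w⁻¹)) * w * u⁻¹ * w⁻¹ := by group
      _ = _ := by rw [this]; group
  -- commutators with one generator
  have hgen : ∀ K, CycQ K B → ∀ u ∈ U, ∀ w ∈ wSub A Y K, ⁅u, w⁆ ∈ T := by
    intro K hK u hu w hw
    have hKA : K ≤ A := hK.1.trans h.le
    obtain ⟨hwY, hwK⟩ := h.wSub_le K hKA hw
    have hsol : Group.IsSolvable K := H1.isSolvable_mono h.sol hKA
    have hcopK : (Nat.card K).Coprime (Nat.card U) :=
      (h.coprime hUY).coprime_dvd_left (card_dvd_of_le hKA)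
    have hU := H1.commutator_sup_centralizer_eq (hKA.trans hAU) hcopK (Or.inl hsol)
    rw [← hU] at hu
    obtain ⟨m, hm, c, hc, rfl⟩ := H1.exists_mul_of_mem_sup
      (inf_le_left.trans H1.left_le_normalizer_commutator) hu
    have hmU := H1.commutator_le_left_of_le_normalizer (hKA.trans hAU) hm
    rw [hmul w hwY m hmU c hc.1]
    refine mul_mem ?_ ?_
    · refine mem_sup_right (le_iSup (fun K : {K : Subgroup G // CycQ K B} => V ⊓ wSub A Y K)
        ⟨K, hK⟩ ⟨hcomm c hc.1 w hwY, ?_⟩)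
      have hcn : c ∈ normalizer (wSub A Y K : Set G) :=
        H1.left_le_normalizer_commutator ⟨hUY hc.1, hc.2⟩
      show ⁅c, w⁆ ∈ wSub A Y K
      rw [commutatorElement_def]
      exact mul_mem ((mem_normalizer_iff.mp hcn w).mp hw) (inv_mem hw)
    · suffices hP : m ∈ U ∧ ⁅m, w⁆ ∈ ⁅V, A⁆ from mem_sup_left hP.2
      rw [Subgroup.commutator_def] at hm
      clear hmU hu
      induction hm using closure_induction with
      | mem z hz =>
        obtain ⟨x, hx, k, hk, rfl⟩ := hz
        have hkx : k * x⁻¹ * k⁻¹ ∈ U :=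
          (mem_normalizer_iff.mp (hKA.trans hAU hk) _).mp (inv_mem hx)
        have hz' : ⁅x, k⁆ = x * (k * x⁻¹ * k⁻¹) := by rw [commutatorElement_def]; group
        refine ⟨hz' ▸ mul_mem hx hkx, ?_⟩
        rw [hz', hmul w hwY x hx _ hkx]
        have hkw : k * w * k⁻¹ = w := by
          rw [mem_centralizer_iff.mp hwK k hk, mul_inv_cancel_right]
        have e1 : ⁅x⁻¹, w⁆ = ⁅x, w⁆⁻¹ := by
          have := hmul w hwY x hx x⁻¹ (inv_mem hx)
          rw [mul_inv_cancel, commutatorElement_one_left] at this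
          exact eq_inv_of_mul_eq_one_left this.symm
        have e2 : ⁅k * x⁻¹ * k⁻¹, w⁆ = k * ⁅x⁻¹, w⁆ * k⁻¹ := by
          conv_lhs => rw [← hkw]
          simp only [commutatorElement_def]
          group
        rw [e2, e1, show k * ⁅x, w⁆⁻¹ * k⁻¹ * ⁅x, w⁆ = ⁅k, ⁅x, w⁆⁻¹⁆ by
          simp only [commutatorElement_def]; group, commutator_comm]
        exact commutator_mem_commutator (hKA hk) (inv_mem (hcomm x hx w hwY))
      | one => exact ⟨one_mem _, by rw [commutatorElement_one_left]; exact one_mem _⟩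
      | mul a b _ _ ha hb =>
        refine ⟨mul_mem ha.1 hb.1, ?_⟩
        rw [hmul w hwY a ha.1 b hb.1]; exact mul_mem hb.2 ha.2
      | inv a _ ha =>
        refine ⟨inv_mem ha.1, ?_⟩
        have := hmul w hwY a ha.1 a⁻¹ (inv_mem ha.1)
        rw [mul_inv_cancel, commutatorElement_one_left] at this
        rw [eq_inv_of_mul_eq_one_left this.symm]
        exact inv_mem ha.2
  -- all of `Y`
  let P : Submonoid G :=
    { carrier := {y | y ∈ Y ∧ ∀ u ∈ U, ⁅u, y⁆ ∈ T}
      one_mem' := ⟨one_mem _, fun u _ => by rw [commutatorElement_one_right]; exact one_mem _⟩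
      mul_mem' := fun {y z} hy hz => ⟨mul_mem hy.1 hz.1, fun u hu => by
        have e : ⁅u, y * z⁆ = ⁅u, y⁆ * (⁅⁅u, z⁆, y⁆⁻¹ * ⁅u, z⁆) := by
          simp only [commutatorElement_def]; group
        rw [e]
        exact mul_mem (hy.2 u hu)
          (mul_mem (inv_mem (hy.2 _ (hVU (hTV (hz.2 u hu))))) (hz.2 u hu))⟩ }
  let P' : Subgroup G :=
    { P with
      inv_mem' := fun {y} hy => by
        obtain ⟨n, hn⟩ : ∃ n : ℕ, y⁻¹ = y ^ n := ⟨orderOf y - 1, by
          rw [inv_eq_iff_mul_eq_one, ← pow_succ', Nat.sub_add_cancel (orderOf_pos y),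
            pow_orderOf_eq_one]⟩
        show y⁻¹ ∈ P
        rw [hn]
        exact pow_mem hy n }
  have hP' : Y ≤ P' := by
    rw [h.gen]
    exact iSup_le fun K w hw =>
      ⟨(h.wSub_le K.1 (K.2.1.trans h.le) hw).1, fun u hu => hgen K.1 K.2 u hu w hw⟩
  have hVT : V ≤ T := hV.trans (commutator_le.mpr fun u hu y hy => (hP' hy).2 u hu)
  -- the projection on the fixed points
  have hD : T ≤ ⁅V, A⁆ ⊔ (V ⊓ centralizer (A : Set G) ⊓ jGen A B Y) := by
    refine sup_le le_sup_left (iSup_le fun K => ?_)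
    have hWY := h.wSub_le K.1 (K.2.1.trans h.le)
    have hn : A ≤ normalizer ((V ⊓ wSub A Y K.1 : Subgroup G) : Set G) :=
      (le_inf hAV H1.right_le_normalizer_commutator).trans inf_normalizer_le_normalizer_inf
    rw [← H1.commutator_sup_centralizer_eq hn
      (h.coprime (inf_le_left.trans hVY)) (Or.inl h.sol)]
    refine sup_le_sup (commutator_mono inf_le_left le_rfl) fun x hx => ⟨⟨hx.1.1, hx.2⟩,
      mem_jGen (hWY hx.1.2).1 (centralizer_le (SetLike.coe_subset_coe.mpr h.le) hx.2) K.2 hx.1.2⟩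
  intro v hv
  obtain ⟨m, hm, j, hj, rfl⟩ := H1.exists_mul_of_mem_sup
    ((inf_le_left.trans inf_le_left).trans H1.left_le_normalizer_commutator) (hD (hVT hv.1))
  have hmc : m ∈ centralizer (A : Set G) := by
    simpa using mul_mem (Subgroup.mem_inf.mp hv).2 (inv_mem (Subgroup.mem_inf.mp (Subgroup.mem_inf.mp hj).1).2)
  have hmV := H1.commutator_le_left_of_le_normalizer hAV hm
  have : m ∈ (V ⊓ centralizer (A : Set G)) ⊓ ⁅V, A⁆ := ⟨⟨hmV, hmc⟩, hm⟩
  rw [inf_commutator_eq_bot hAV (h.coprime hVY), Subgroup.mem_bot] at this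
  subst this
  simpa using hj.2

end Setup

end H2.FixedGen
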