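/-
An abelian 2-group `A` acting on a solvable group `Y = ⁅Y, A⁆` of odd order: the fixed points of
`B ≤ A` are generated by their intersections with the `⁅C_Y(K), A⁆`, `B / K` cyclic.
-/
import Cfsg.Agent.H2.FixedGen.Basic
import Mathlib.GroupTheory.Transfer
import Mathlib.GroupTheory.Nilpotent
import Mathlib.GroupTheory.Sylow

set_option autoImplicit false
set_option linter.unusedSectionVars false
set_option linter.style.haveILetI false

open Subgroup
open scoped commutatorElement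

namespace H2.FixedGen

universe u

variable {G : Type u} [Group G]

theorem le_normalizer_comm {A X Z : Subgroup G} (hX : A ≤ normalizer (X : Set G))
    (hZ : A ≤ normalizer (Z : Set G)) : A ≤ normalizer ((⁅X, Z⁆ : Subgroup G) : Set G) := by
  intro a ha
  rw [mem_normalizer_iff_map_conj_eq, map_commutator, mem_normalizer_iff_map_conj_eq.mp (hX ha),
    mem_normalizer_iff_map_conj_eq.mp (hZ ha)]

/-- The image of `X` under a homomorphism of an overgroup. -/
def img {N : Subgroup G} {Q : Type u} [Group Q] (f : N →* Q) (X : Subgroup G) : Subgroup Q :=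
  (X.subgroupOf N).map f

theorem mem_img {N : Subgroup G} {Q : Type u} [Group Q] {f : N →* Q} {X : Subgroup G} {q : Q} :
    q ∈ img f X ↔ ∃ x : N, (x : G) ∈ X ∧ f x = q := by
  simp [img, Subgroup.mem_map, mem_subgroupOf]

theorem img_commutator {N : Subgroup G} {Q : Type u} [Group Q] (f : N →* Q) {X Z : Subgroup G}
    (hX : X ≤ N) (hZ : Z ≤ N) : img f ⁅X, Z⁆ = ⁅img f X, img f Z⁆ := by
  rw [img, img, img, ← map_commutator]
  congr 1
  apply map_injective N.subtype_injective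
  have hXZ : ⁅X, Z⁆ ≤ N := commutator_le.mpr fun x hx z hz =>
    mul_mem (mul_mem (mul_mem (hX hx) (hZ hz)) (inv_mem (hX hx))) (inv_mem (hZ hz))
  rw [map_commutator, map_subgroupOf_eq_of_le hXZ, map_subgroupOf_eq_of_le hX,
    map_subgroupOf_eq_of_le hZ]

variable [Finite G] {A B Y : Subgroup G}

theorem Setup.img' (h : Setup A B Y) {N : Subgroup G} {Q : Type u} [Group Q] (f : N →* Q)
    (hA : A ≤ N) (hY : Y ≤ N) : Setup (img f A) (img f B) (img f Y) where
  two := (h.two.of_equiv (subgroupOfEquivOfLe hA).symm).map f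
  comm := by
    intro a ha b hb
    obtain ⟨x, hx, rfl⟩ := mem_img.mp ha
    obtain ⟨y, hy, rfl⟩ := mem_img.mp hb
    rw [← map_mul, ← map_mul]
    exact congrArg f (Subtype.ext (h.comm _ hx _ hy))
  le := Subgroup.map_mono fun x hx => h.le hx
  odd := by
    refine h.odd.of_dvd_nat ?_
    rw [← Nat.card_congr (subgroupOfEquivOfLe hY).toEquiv]
    exact card_map_dvd (Y.subgroupOf N) f
  inv := by
    refine fun q hq => mem_normalizer_iff.mpr fun r => ?_
    obtain ⟨a, ha, rfl⟩ := mem_img.mp hq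
    have key : ∀ b : N, (b : G) ∈ A → ∀ s ∈ img f Y, f b * s * (f b)⁻¹ ∈ img f Y := by
      intro b hb s hs
      obtain ⟨y, hy, rfl⟩ := mem_img.mp hs
      exact mem_img.mpr ⟨b * y * b⁻¹, (mem_normalizer_iff.mp (h.inv hb) y).mp hy,
        by rw [map_mul, map_mul, map_inv]⟩
    refine ⟨key a ha r, fun hr => ?_⟩
    simpa [mul_assoc] using key a⁻¹ (inv_mem ha) _ hr
  eq := by rw [← img_commutator f hY hA, h.eq]

namespace Setup

variable (h : Setup A B Y)
include h

theorem quot_step {V : Subgroup G} (hVY : V ≤ Y) (hne : V ≠ ⊥)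
    (hYV : Y ≤ normalizer (V : Set G)) (hAV : A ≤ normalizer (V : Set G))
    (hsol : Group.IsSolvable Y)
    (ih : ∀ {Q : Type u} [Group Q] [Finite Q] (A' B' Y' : Subgroup Q), Setup A' B' Y' →
      Group.IsSolvable Y' → Nat.card Y' < Nat.card Y →
      Y' ⊓ centralizer (B' : Set Q) ≤ jGen A' B' Y') :
    Y ⊓ centralizer (B : Set G) ≤ jGen A B Y ⊔ (V ⊓ centralizer (B : Set G)) := by
  set N : Subgroup G := normalizer (V : Set G) with hN
  haveI : (V.subgroupOf N).Normal := normal_subgroupOf_of_le_normalizer le_rfl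
  set f : N →* N ⧸ V.subgroupOf N := QuotientGroup.mk' _ with hf
  have hker : ∀ x y : N, f x = f y ↔ (x : G)⁻¹ * y ∈ V := fun x y => by
    rw [hf, QuotientGroup.mk'_apply, QuotientGroup.mk'_apply, QuotientGroup.eq, mem_subgroupOf]
    simp
  have hlt : Nat.card (img f Y) < Nat.card Y := by
    rw [← Nat.card_congr (subgroupOfEquivOfLe hYV).toEquiv]
    refine lt_of_le_of_ne (Nat.le_of_dvd Nat.card_pos (card_map_dvd _ f)) fun e => ?_
    have hbij := ((f.comp (Y.subgroupOf N).subtype).codRestrict (img f Y)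
      fun x => mem_img.mpr ⟨x, x.2, rfl⟩)
    have hsurj : Function.Surjective ((f.comp (Y.subgroupOf N).subtype).codRestrict (img f Y)
        fun x => mem_img.mpr ⟨x, x.2, rfl⟩) := fun q => by
      obtain ⟨x, hx, hq⟩ := mem_img.mp q.2
      exact ⟨⟨x, hx⟩, Subtype.ext hq⟩
    have hinj := ((Nat.bijective_iff_surjective_and_card _).mpr ⟨hsurj, e.symm⟩).1
    refine hne ((eq_bot_iff_forall _).mpr fun v hv => ?_)
    have := @hinj ⟨⟨v, hYV (hVY hv)⟩, hVY hv⟩ 1 (Subtype.ext (by
      show f ⟨v, hYV (hVY hv)⟩ = f 1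
      rw [hker]
      simpa using inv_mem hv))
    exact congrArg (fun z : ↥(Y.subgroupOf N) => ((z : N) : G)) this
  have hsol' : Group.IsSolvable (img f Y) := by
    haveI : Group.IsSolvable (Y.subgroupOf N) :=
      Group.isSolvable_of_isSolvable_injective (f := (subgroupOfEquivOfLe hYV).toMonoidHom)
        (subgroupOfEquivOfLe hYV).injective
    exact Group.isSolvable_of_surjective (f := f.subgroupMap (Y.subgroupOf N))
      (f.subgroupMap_surjective _)
  have key := ih _ _ _ (h.img' f hAV hYV) hsol' hlt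
  have hBN : B ≤ N := h.le.trans hAV
  -- the generators lift
  have hJ : jGen (img f A) (img f B) (img f Y) ≤ img f (jGen A B Y) := by
    rw [jGen, closure_le]
    rintro q ⟨-, hqB, K', ⟨hK'B, b', hb', hcyc⟩, hqW⟩
    set K : Subgroup G := B ⊓ (K'.comap f).map N.subtype with hK
    have hKmem : ∀ x : N, (x : G) ∈ B → ((x : G) ∈ K ↔ f x ∈ K') := fun x hx => by
      refine ⟨fun hx' => ?_, fun hx' => ⟨hx, x, hx', rfl⟩⟩
      obtain ⟨y, hy, e⟩ := (Subgroup.mem_inf.mp hx').2
      rwa [← show y = x from Subtype.ext e]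
    obtain ⟨b, hb, rfl⟩ := mem_img.mp hb'
    have hKc : CycQ K B := by
      refine ⟨inf_le_left, b, hb, fun x hx => ?_⟩
      obtain ⟨i, hi⟩ := hcyc (f ⟨x, hBN hx⟩) (mem_img.mpr ⟨_, hx, rfl⟩)
      refine ⟨i, (hKmem ((b ^ i)⁻¹ * ⟨x, hBN hx⟩) ?_).mpr (by simpa using hi)⟩
      push_cast
      exact mul_mem (inv_mem (zpow_mem hb i)) hx
    have hKA : K ≤ A := inf_le_left.trans h.le
    have hcl : img f Y ⊓ centralizer (K' : Set (N ⧸ V.subgroupOf N)) ≤
        img f (Y ⊓ centralizer (K : Set G)) := by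
      intro r hr
      obtain ⟨hrY, hrK⟩ := Subgroup.mem_inf.mp hr
      obtain ⟨y, hy, rfl⟩ := mem_img.mp hrY
      obtain ⟨c, hc, hyc⟩ := H1.exists_fixed_mem_coset_of_le (A := K) (K := Y) hVY
        (hKA.trans hAV) ((h.coprime le_rfl).coprime_dvd_left (card_dvd_of_le hKA))
        (Or.inl (H1.isSolvable_mono h.sol hKA)) hy (fun a ha => by
          have haB : a ∈ B := (Subgroup.mem_inf.mp ha).1
          have hc' := mem_centralizer_iff.mp hrK _ ((hKmem ⟨a, hBN haB⟩ haB).mp ha)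
          have := (hker y (⟨a, hBN haB⟩ * y * ⟨a, hBN haB⟩⁻¹)).mp
            (by rw [map_mul, map_mul, map_inv, hc', mul_inv_cancel_right])
          simpa using this)
      exact mem_img.mpr ⟨⟨c, hYV hc.1⟩, hc, ((hker y _).mpr hyc).symm⟩
    have hq : q ∈ img f (wSub A Y K) := by
      rw [wSub, img_commutator f (inf_le_left.trans hYV) hAV]
      exact commutator_mono hcl le_rfl hqW
    obtain ⟨w, hw, rfl⟩ := mem_img.mp hq
    have hWY := (h.wSub_le K hKA).trans inf_le_left
    obtain ⟨c, hc, hwc⟩ := H1.exists_fixed_mem_coset_of_le (A := B) (K := wSub A Y K)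
      (N := wSub A Y K ⊓ V) inf_le_left
      (h.le.trans ((le_inf H1.right_le_normalizer_commutator hAV).trans
        inf_normalizer_le_normalizer_inf))
      ((h.coprime hWY).coprime_dvd_left (card_dvd_of_le h.le))
      (Or.inl (H1.isSolvable_mono h.sol h.le)) hw (fun a ha => by
        refine Subgroup.mem_inf.mpr ⟨mul_mem (inv_mem hw)
          ((mem_normalizer_iff.mp (H1.right_le_normalizer_commutator (h.le ha)) _).mp hw), ?_⟩
        have hc' := mem_centralizer_iff.mp hqB (f ⟨a, hBN ha⟩) (mem_img.mpr ⟨_, ha, rfl⟩)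
        have := (hker w (⟨a, hBN ha⟩ * w * ⟨a, hBN ha⟩⁻¹)).mp
          (by rw [map_mul, map_mul, map_inv, hc', mul_inv_cancel_right])
        simpa using this)
    obtain ⟨hc1, hc2⟩ := Subgroup.mem_inf.mp hc
    exact mem_img.mpr ⟨⟨c, hYV (hWY hc1)⟩, mem_jGen (hWY hc1) hc2 hKc hc1,
      ((hker w _).mpr (Subgroup.mem_inf.mp hwc).2).symm⟩
  intro x hx
  obtain ⟨hxY, hxB⟩ := Subgroup.mem_inf.mp hx
  have hq : f ⟨x, hYV hxY⟩ ∈ img f Y ⊓ centralizer (img f B : Set (N ⧸ V.subgroupOf N)) := by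
    refine Subgroup.mem_inf.mpr ⟨mem_img.mpr ⟨_, hxY, rfl⟩, mem_centralizer_iff.mpr fun r hr => ?_⟩
    obtain ⟨a, ha, rfl⟩ := mem_img.mp hr
    rw [← map_mul, ← map_mul]
    exact congrArg f (Subtype.ext (mem_centralizer_iff.mp hxB _ ha))
  obtain ⟨j, hj, e⟩ := mem_img.mp (hJ (key hq))
  have hv : (j : G)⁻¹ * x ∈ V := (hker j _).mp e
  have hvB : (j : G)⁻¹ * x ∈ centralizer (B : Set G) :=
    mul_mem (inv_mem (Setup.jGen_le hj).2) hxB
  simpa using mul_mem (mem_sup_left hj : (j : G) ∈ jGen A B Y ⊔ (V ⊓ centralizer (B : Set G)))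
    (mem_sup_right (Subgroup.mem_inf.mpr ⟨hv, hvB⟩))

theorem fixed_le_of_fixed {V : Subgroup G} (hVY : V ≤ Y) (hAV : A ≤ normalizer (V : Set G))
    (hV : V ⊓ centralizer (A : Set G) ≤ jGen A B Y) :
    V ⊓ centralizer (B : Set G) ≤ jGen A B Y := by
  rw [← H1.commutator_sup_centralizer_eq (le_normalizer_fixed h.comm h.le hAV)
    (h.coprime (inf_le_left.trans hVY)) (Or.inl h.sol)]
  exact sup_le ((commutator_mono (inf_le_inf_right _ hVY) le_rfl).trans h.commutator_fixed_le_jGen)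
    ((inf_le_inf_right _ inf_le_left).trans hV)

/-- `C_Y(A) ≤ ⁅Y, Y⁆`. -/
theorem fixed_le_derived : Y ⊓ centralizer (A : Set G) ≤ ⁅Y, Y⁆ := by
  set N : Subgroup G := normalizer ((⁅Y, Y⁆ : Subgroup G) : Set G) with hN
  have hYN : Y ≤ N := le_normalizer_comm le_normalizer le_normalizer
  have hAN : A ≤ N := le_normalizer_comm h.inv h.inv
  haveI : ((⁅Y, Y⁆ : Subgroup G).subgroupOf N).Normal :=
    normal_subgroupOf_of_le_normalizer le_rfl
  set f : N →* N ⧸ (⁅Y, Y⁆ : Subgroup G).subgroupOf N := QuotientGroup.mk' _ with hf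
  have S := h.img' f hAN hYN
  haveI : IsMulCommutative (img f Y) := ⟨⟨fun a b => by
    have h0 : ⁅img f Y, img f Y⁆ = ⊥ := by
      rw [← img_commutator f hYN hYN, eq_bot_iff]
      intro q hq
      obtain ⟨x, hx, rfl⟩ := mem_img.mp hq
      rw [Subgroup.mem_bot, hf, QuotientGroup.mk'_apply, QuotientGroup.eq_one_iff, mem_subgroupOf]
      exact hx
    apply Subtype.ext
    exact commutatorElement_eq_one_iff_mul_comm.mp
      (Subgroup.mem_bot.mp (h0 ▸ commutator_mem_commutator a.2 b.2))⟩⟩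
  intro c hc
  obtain ⟨hcY, hcA⟩ := Subgroup.mem_inf.mp hc
  have h1 : f ⟨c, hYN hcY⟩ ∈
      (img f Y ⊓ centralizer (img f A : Set (N ⧸ (⁅Y, Y⁆ : Subgroup G).subgroupOf N))) ⊓
        ⁅img f Y, img f A⁆ := by
    rw [S.eq, inf_right_comm, inf_idem]
    refine Subgroup.mem_inf.mpr ⟨mem_img.mpr ⟨_, hcY, rfl⟩, mem_centralizer_iff.mpr fun r hr => ?_⟩
    obtain ⟨a, ha, rfl⟩ := mem_img.mp hr
    rw [← map_mul, ← map_mul]
    exact congrArg f (Subtype.ext (mem_centralizer_iff.mp hcA _ ha))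
  rw [H2.inf_commutator_eq_bot S.inv (S.coprime le_rfl), Subgroup.mem_bot, hf,
    QuotientGroup.mk'_apply, QuotientGroup.eq_one_iff, mem_subgroupOf] at h1
  exact h1

theorem lcs_prop (n : ℕ) : Y.lowerCentralSeries n ≤ Y ∧ Y ≤ normalizer (Y.lowerCentralSeries n : Set G) ∧
    A ≤ normalizer (Y.lowerCentralSeries n : Set G) ∧ Y.lowerCentralSeries (n + 1) ≤ Y.lowerCentralSeries n := by
  induction n with
  | zero =>
    exact ⟨le_rfl, le_normalizer, h.inv, H1.commutator_le_left_of_le_normalizer le_normalizer⟩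
  | succ n ih =>
    obtain ⟨h1, h2, h3, h4⟩ := ih
    have hn : Y ≤ normalizer (Y.lowerCentralSeries (n + 1) : Set G) := le_normalizer_comm h2 le_normalizer
    exact ⟨h4.trans h1, hn, le_normalizer_comm h3 h.inv,
      H1.commutator_le_left_of_le_normalizer hn⟩

/-- The nilpotent case gives a normal subgroup with fixed points in the generated subgroup. -/
theorem exists_of_nilpotent (hne : Y ≠ ⊥) (hnil : Group.IsNilpotent Y) :
    ∃ V : Subgroup G, V ≤ Y ∧ V ≠ ⊥ ∧ Y ≤ normalizer (V : Set G) ∧ A ≤ normalizer (V : Set G) ∧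
      V ⊓ centralizer (A : Set G) ≤ jGen A B Y := by
  obtain ⟨n, hn'⟩ := (Subgroup.isNilpotent_iff_lowerCentralSeries Y).mp hnil
  classical
  have hex : ∃ n, Y.lowerCentralSeries n = ⊥ := ⟨n, hn'⟩
  have hspec := Nat.find_spec hex
  rcases Nat.eq_zero_or_pos (Nat.find hex) with h0 | h0
  · rw [h0] at hspec; exact absurd hspec hne
  rcases Nat.eq_or_lt_of_le (show 1 ≤ Nat.find hex from h0) with h1 | h1
  · -- abelian
    rw [← h1] at hspec
    haveI : IsMulCommutative Y := ⟨⟨fun a b => Subtype.ext (commutatorElement_eq_one_iff_mul_comm.mp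
      (Subgroup.mem_bot.mp (hspec ▸ commutator_mem_commutator a.2 b.2 : ⁅(a : G), (b : G)⁆ ∈ _)))⟩⟩
    refine ⟨Y, le_rfl, hne, le_normalizer, h.inv, ?_⟩
    have := H2.inf_commutator_eq_bot h.inv (h.coprime le_rfl)
    rw [h.eq, inf_right_comm, inf_idem] at this
    rw [this]
    exact bot_le
  obtain ⟨c, hc⟩ : ∃ c, Nat.find hex = c + 2 := ⟨Nat.find hex - 2, by omega⟩
  rw [hc] at hspec
  have hcen : ∀ y ∈ Y, ∀ v ∈ Y.lowerCentralSeries (c + 1), y * v = v * y := fun y hy v hv =>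
    (commutatorElement_eq_one_iff_mul_comm.mp (Subgroup.mem_bot.mp
      (hspec ▸ commutator_mem_commutator hv hy : ⁅v, y⁆ ∈ _))).symm
  obtain ⟨hU, -, hAU, hVU⟩ := h.lcs_prop c
  obtain ⟨hV, hYV, hAV, -⟩ := h.lcs_prop (c + 1)
  exact ⟨_, hV, Nat.find_min hex (by omega), hYV, hAV,
    h.fixed_le_jGen hU hAU hAV hVU (fun u hu v hv => hcen u (hU hu) v hv)
      (fun u hu y hy => commutator_mem_commutator hu hy) le_rfl⟩

end Setup

/-- The transfer step. -/
theorem fixed_central_case (h : Setup A B Y) {P V : Subgroup G} {p : ℕ} [Fact p.Prime]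
    (hPY : P ≤ Y) (hVP : V ≤ P) (hAP : A ≤ normalizer (P : Set G))
    (hidx : ¬ p ∣ (P.subgroupOf Y).index) (hVp : Nat.card V = p)
    (hcen : ∀ y ∈ Y, ∀ v ∈ V, y * v = v * y) (hVA : V ≤ centralizer (A : Set G))
    (hstep : Y ⊓ centralizer (B : Set G) ≤ jGen A B Y ⊔ (V ⊓ centralizer (B : Set G)))
    (hP0 : ⁅P, A⁆ ⊓ centralizer (B : Set G) ≤ jGen A B Y) :
    V ≤ jGen A B Y := by
  by_contra hVJ
  have hVJ' : ∀ x ∈ V, x ∈ jGen A B Y → x = 1 := by
    intro x hx hxJ
    by_contra hx1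
    refine hVJ ?_
    have hle : zpowers x ≤ V := (zpowers_le).mpr hx
    have hne : Nat.card (zpowers x) ≠ 1 := fun e => hx1 (by
      rw [Nat.card_zpowers, orderOf_eq_one_iff] at e; exact e)
    have he : zpowers x = V := eq_of_le_of_card_ge hle (le_of_eq (by
      rcases (Nat.dvd_prime (Fact.out (p := p.Prime))).mp (hVp ▸ card_dvd_of_le hle) with e | e
      · exact absurd e hne
      · rw [e, hVp]))
    rw [← he]
    exact (zpowers_le).mpr hxJ
  set P0 : Subgroup G := ⁅P, A⁆ with hP0d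
  set Q : Subgroup G := P ⊓ centralizer (A : Set G) with hQd
  have hP0P : P0 ≤ P := H1.commutator_le_left_of_le_normalizer hAP
  have hPn : P ≤ normalizer (P0 : Set G) := H1.left_le_normalizer_commutator
  have hQB : Q ≤ Y ⊓ centralizer (B : Set G) :=
    inf_le_inf hPY (centralizer_le (SetLike.coe_subset_coe.mpr h.le))
  have hQQ : ⁅Q, Q⁆ ≤ jGen A B Y ⊓ centralizer (A : Set G) := by
    refine le_inf (commutator_le.mpr fun c hc d hd => ?_) (commutator_le.mpr fun c hc d hd =>
      mul_mem (mul_mem (mul_mem hc.2 hd.2) (inv_mem hc.2)) (inv_mem hd.2))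
    have hn : V ⊓ centralizer (B : Set G) ≤ normalizer (jGen A B Y : Set G) := fun v hv =>
      mem_normalizer_iff.mpr fun x => by
        have key : ∀ x ∈ Y, v * x * v⁻¹ = x := fun x hx => by
          rw [← hcen x hx v hv.1, mul_inv_cancel_right]
        refine ⟨fun hx => by rw [key x (Setup.jGen_le hx).1]; exact hx, fun hx => ?_⟩
        have hx' : x ∈ Y := by
          have := mul_mem (mul_mem (inv_mem (hPY (hVP hv.1))) (Setup.jGen_le hx).1) (hPY (hVP hv.1))
          simpa [mul_assoc] using this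
        rwa [key x hx'] at hx
    obtain ⟨j, hj, v, hv, rfl⟩ := H1.exists_mul_of_mem_sup hn (hstep (hQB hc))
    obtain ⟨j', hj', v', hv', rfl⟩ := H1.exists_mul_of_mem_sup hn (hstep (hQB hd))
    have e : ⁅j * v, j' * v'⁆ = ⁅j, j'⁆ := by
      have c1 : ∀ x ∈ Y, Commute v x := fun x hx => (hcen x hx v hv.1).symm
      have c2 : ∀ x ∈ Y, Commute v' x := fun x hx => (hcen x hx v' hv'.1).symm
      have hjY := (Setup.jGen_le hj).1
      have hjY' := (Setup.jGen_le hj').1
      have hvY := hPY (hVP hv.1)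
      simp only [commutatorElement_def, mul_inv_rev]
      calc j * v * (j' * v') * (v⁻¹ * j⁻¹) * (v'⁻¹ * j'⁻¹)
          = j * (v * (j' * v') * v⁻¹) * j⁻¹ * v'⁻¹ * j'⁻¹ := by group
        _ = j * (j' * v') * j⁻¹ * v'⁻¹ * j'⁻¹ := by
          rw [(c1 _ (mul_mem hjY' (hPY (hVP hv'.1)))).eq, mul_inv_cancel_right]
        _ = j * j' * (v' * j⁻¹ * v'⁻¹) * j'⁻¹ := by group
        _ = _ := by rw [(c2 _ (inv_mem hjY)).eq, mul_inv_cancel_right]
    rw [e]
    exact mul_mem (mul_mem (mul_mem hj hj') (inv_mem hj)) (inv_mem hj')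
  set D : Subgroup G := P0 ⊔ ⁅Q, Q⁆ with hDd
  have hQQP : ⁅Q, Q⁆ ≤ P := commutator_le.mpr fun c hc d hd =>
    mul_mem (mul_mem (mul_mem hc.1 hd.1) (inv_mem hc.1)) (inv_mem hd.1)
  have hDP : D ≤ P := sup_le hP0P hQQP
  have hDV : ∀ x ∈ D, x ∈ V → x = 1 := by
    intro x hx hxV
    obtain ⟨m, hm, j, hj, rfl⟩ := H1.exists_mul_of_mem_sup (hQQP.trans hPn) hx
    obtain ⟨hjJ, hjA⟩ := Subgroup.mem_inf.mp (hQQ hj)
    have hmA : m ∈ centralizer (A : Set G) := by
      simpa using mul_mem (hVA hxV) (inv_mem hjA)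
    exact hVJ' _ hxV (mul_mem (hP0 (Subgroup.mem_inf.mpr
      ⟨hm, centralizer_le (SetLike.coe_subset_coe.mpr h.le) hmA⟩)) hjJ)
  have hsplit : P0 ⊔ Q = P := H1.commutator_sup_centralizer_eq hAP (h.coprime hPY) (Or.inl h.sol)
  have hPP : ∀ x ∈ P, ∀ y ∈ P, ⁅x, y⁆ ∈ D := by
    intro x hx y hy
    rw [← hsplit] at hx hy
    obtain ⟨m, hm, c, hc, rfl⟩ := H1.exists_mul_of_mem_sup (inf_le_left.trans hPn) hx
    obtain ⟨m', hm', c', hc', rfl⟩ := H1.exists_mul_of_mem_sup (inf_le_left.trans hPn) hy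
    have hl : ∀ u ∈ P0, ∀ z ∈ P, ⁅u, z⁆ ∈ D := fun u hu z hz => by
      refine mem_sup_left ?_
      rw [commutatorElement_def, show u * z * u⁻¹ * z⁻¹ = u * (z * u⁻¹ * z⁻¹) by group]
      exact mul_mem hu ((mem_normalizer_iff.mp (hPn hz) _).mp (inv_mem hu))
    have e1 : ⁅m * c, m' * c'⁆ = m * ⁅c, m' * c'⁆ * m⁻¹ * ⁅m, m' * c'⁆ := by
      simp only [commutatorElement_def]; group
    have e2 : ⁅c, m' * c'⁆ = ⁅c, m'⁆ * (m' * ⁅c, c'⁆ * m'⁻¹) := by
      simp only [commutatorElement_def]; group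
    have hm'c : ⁅c, m'⁆ ∈ D := by
      rw [← commutatorElement_inv]
      exact inv_mem (hl m' hm' c hc.1)
    rw [e1, e2]
    exact mul_mem (mul_mem (mul_mem (mem_sup_left hm) (mul_mem hm'c (mul_mem (mul_mem
      (mem_sup_left hm') (mem_sup_right (commutator_mem_commutator hc hc')))
        (inv_mem (mem_sup_left hm'))))) (inv_mem (mem_sup_left hm)))
      (hl m hm _ (mul_mem (hP0P hm') hc'.1))
  -- the transfer
  set PY : Subgroup Y := P.subgroupOf Y with hPY'
  set DY : Subgroup PY := (D.subgroupOf Y).subgroupOf PY with hDY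
  haveI : DY.Normal := ⟨fun x hx g => by
    have hgx := hPP _ g.2 _ (hDP hx)
    have : ((((g * x * g⁻¹ : PY) : Y) : G)) = ⁅((g : Y) : G), ((x : Y) : G)⁆ * ((x : Y) : G) := by
      simp [commutatorElement_def]
    show (((g * x * g⁻¹ : PY) : Y) : G) ∈ D
    rw [this]
    exact mul_mem hgx hx⟩
  letI : CommGroup (PY ⧸ DY) := { (inferInstance : Group (PY ⧸ DY)) with
    mul_comm := fun a b => by
      induction a using QuotientGroup.induction_on with
      | _ a => ?_
      induction b using QuotientGroup.induction_on with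
      | _ b => ?_
      rw [← QuotientGroup.mk_mul, ← QuotientGroup.mk_mul, QuotientGroup.eq]
      show ((((a * b)⁻¹ * (b * a) : PY) : Y) : G) ∈ D
      have := hPP _ (inv_mem b.2) _ (inv_mem a.2)
      simpa [commutatorElement_def, mul_assoc] using this }
  let τ : Y →* PY ⧸ DY := MonoidHom.transfer (QuotientGroup.mk' DY)
  obtain ⟨z, hz, hz1⟩ : ∃ z ∈ V, z ≠ (1 : G) := by
    by_contra hcon
    push Not at hcon
    exact hVJ fun v hv => by rw [hcon v hv]; exact one_mem _
  have hzY : z ∈ Y := hPY (hVP hz)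
  have hzY' : (⟨z, hzY⟩ : Y) ∈ commutator Y := by
    rw [← map_subtype_commutator] at *
    have := h.fixed_le_derived (Subgroup.mem_inf.mpr ⟨hzY, hVA hz⟩)
    rw [← map_subtype_commutator] at this
    obtain ⟨w, hw, e⟩ := this
    rwa [← show w = (⟨z, hzY⟩ : Y) from Subtype.ext e]
  have h1 : τ ⟨z, hzY⟩ = 1 := Abelianization.commutator_subset_ker τ hzY'
  have hz' : ∀ (k : ℕ) (g₀ : Y), g₀⁻¹ * (⟨z, hzY⟩ : Y) ^ k * g₀ ∈ PY →
      g₀⁻¹ * (⟨z, hzY⟩ : Y) ^ k * g₀ = (⟨z, hzY⟩ : Y) ^ k := fun k g₀ _ => by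
    apply Subtype.ext
    show (g₀ : G)⁻¹ * z ^ k * g₀ = z ^ k
    rw [mul_assoc, ← hcen g₀ g₀.2 _ (pow_mem hz k), inv_mul_cancel_left]
  rw [MonoidHom.transfer_eq_pow _ _ hz', QuotientGroup.mk'_apply, QuotientGroup.eq_one_iff] at h1
  have h2 : z ^ PY.index ∈ D := h1
  have h3 := hDV _ h2 (pow_mem hz _)
  refine hidx ?_
  have hzo : orderOf z = p := orderOf_eq_prime (hVp ▸ (Subtype.ext_iff.mp
    (pow_card_eq_one' (x := (⟨z, hz⟩ : V))))) hz1
  exact hzo ▸ orderOf_dvd_of_pow_eq_one h3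

/-- The fixed points of `B` are generated by their parts in the `⁅C_Y(K), A⁆`. -/
theorem fixed_le (h : Setup A B Y) (hsol : Group.IsSolvable Y) :
    Y ⊓ centralizer (B : Set G) ≤ jGen A B Y := by
  suffices key : ∀ n : ℕ, ∀ (G : Type u) [Group G] [Finite G] (A B Y : Subgroup G),
      Setup A B Y → Group.IsSolvable Y → Nat.card Y = n →
      Y ⊓ centralizer (B : Set G) ≤ jGen A B Y from key _ G A B Y h hsol rfl
  intro n
  induction n using Nat.strong_induction_on with
  | _ n ih =>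
    intro G _ _ A B Y h hsol hn
    subst hn
    have ih' : ∀ {Q : Type u} [Group Q] [Finite Q] (A' B' Y' : Subgroup Q), Setup A' B' Y' →
        Group.IsSolvable Y' → Nat.card Y' < Nat.card Y →
        Y' ⊓ centralizer (B' : Set Q) ≤ jGen A' B' Y' :=
      fun {Q} _ _ A' B' Y' h' hs' hlt => ih _ hlt Q A' B' Y' h' hs' rfl
    by_cases hY : Y = ⊥
    · exact (inf_le_left.trans hY.le).trans bot_le
    have done : ∀ V : Subgroup G, V ≤ Y → V ≠ ⊥ → Y ≤ normalizer (V : Set G) →
        A ≤ normalizer (V : Set G) → V ⊓ centralizer (A : Set G) ≤ jGen A B Y →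
        Y ⊓ centralizer (B : Set G) ≤ jGen A B Y := fun V hVY hne hYV hAV hV =>
      (h.quot_step hVY hne hYV hAV hsol ih').trans
        (sup_le le_rfl (h.fixed_le_of_fixed hVY hAV hV))
    by_cases hnil : Group.IsNilpotent Y
    · obtain ⟨V, h1, h2, h3, h4, h5⟩ := h.exists_of_nilpotent hY hnil
      exact done V h1 h2 h3 h4 h5
    obtain ⟨V, ⟨hVY, hne, hYV, hAV⟩, hmin⟩ := Set.Finite.exists_minimal
      (s := {V : Subgroup G | V ≤ Y ∧ V ≠ ⊥ ∧ Y ≤ normalizer (V : Set G) ∧
        A ≤ normalizer (V : Set G)}) (Set.toFinite _) ⟨Y, le_rfl, hY, le_normalizer, h.inv⟩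
    have hsub : ∀ W ≤ V, Y ≤ normalizer (W : Set G) → A ≤ normalizer (W : Set G) →
        W = ⊥ ∨ W = V := fun W hW hWY hWA => or_iff_not_imp_left.mpr fun hW0 =>
      le_antisymm hW (hmin ⟨hW.trans hVY, hW0, hWY, hWA⟩ hW)
    have hVV : ⁅V, V⁆ = ⊥ := (hsub ⁅V, V⁆ (H1.commutator_le_left_of_le_normalizer le_normalizer)
      (le_normalizer_comm hYV hYV) (le_normalizer_comm hAV hAV)).resolve_right fun e => hne <| by
        haveI : Group.IsSolvable V := H1.isSolvable_mono hsol hVY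
        by_contra hV0
        haveI : Nontrivial V := (nontrivial_iff_ne_bot V).mpr hV0
        refine (Group.IsSolvable.commutator_lt_top_of_nontrivial (G := V)).ne ?_
        apply map_injective V.subtype_injective
        rw [map_subtype_commutator, e, ← MonoidHom.range_eq_map, range_subtype]
    have hVc : ∀ u ∈ V, ∀ v ∈ V, u * v = v * u := fun u hu v hv =>
      commutatorElement_eq_one_iff_mul_comm.mp
        (Subgroup.mem_bot.mp (hVV ▸ commutator_mem_commutator hu hv))
    rcases hsub ⁅V, Y⁆ (H1.commutator_le_left_of_le_normalizer hYV)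
      (le_normalizer_comm hYV le_normalizer) (le_normalizer_comm hAV h.inv) with hz | hz
    swap
    · exact done V hVY hne hYV hAV (h.fixed_le_jGen hVY hAV hAV le_rfl hVc
        (fun u hu y hy => hz.le (commutator_mem_commutator hu hy)) hz.ge)
    have hcen : ∀ y ∈ Y, ∀ v ∈ V, y * v = v * y := fun y hy v hv =>
      (commutatorElement_eq_one_iff_mul_comm.mp
        (Subgroup.mem_bot.mp (hz ▸ commutator_mem_commutator hv hy))).symm
    have hsubn : ∀ W ≤ V, Y ≤ normalizer (W : Set G) := fun W hW y hy =>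
      mem_normalizer_iff.mpr fun x => by
        have key : ∀ x ∈ V, y * x * y⁻¹ = x := fun x hx => by
          rw [hcen y hy x hx, mul_inv_cancel_right]
        refine ⟨fun hx => by rw [key x (hW hx)]; exact hx, fun hx => ?_⟩
        have hxV : x ∈ V := (mem_normalizer_iff.mp (hYV hy) x).mpr (hW hx)
        rwa [key x hxV] at hx
    rcases hsub (V ⊓ centralizer (A : Set G)) inf_le_left (hsubn _ inf_le_left)
      (le_normalizer_fixed h.comm le_rfl hAV) with hf | hf
    · exact done V hVY hne hYV hAV (hf ▸ bot_le)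
    have hVA : V ≤ centralizer (A : Set G) := hf.ge.trans inf_le_right
    have hVsub : ∀ W ≤ V, W = ⊥ ∨ W = V := fun W hW =>
      hsub W hW (hsubn W hW) fun a ha => mem_normalizer_iff.mpr fun x => by
        have key : ∀ x ∈ V, a * x * a⁻¹ = x := fun x hx => by
          rw [mem_centralizer_iff.mp (hVA hx) a ha, mul_inv_cancel_right]
        refine ⟨fun hx => by rw [key x (hW hx)]; exact hx, fun hx => ?_⟩
        have hxV : x ∈ V := (mem_normalizer_iff.mp (hAV ha) x).mpr (hW hx)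
        rwa [key x hxV] at hx
    obtain ⟨p, hp, hpV⟩ := Nat.exists_prime_and_dvd
      (n := Nat.card V) fun e => hne (Subgroup.card_eq_one.mp e)
    haveI := Fact.mk hp
    obtain ⟨z, hz⟩ := exists_prime_orderOf_dvd_card' (G := V) p hpV
    have hVp : Nat.card V = p := by
      rcases hVsub (zpowers (z : G)) ((zpowers_le).mpr z.2) with e | e
      · have hz1 : (z : G) = 1 := Subgroup.mem_bot.mp (e ▸ mem_zpowers (z : G))
        rw [show z = 1 from Subtype.ext hz1, orderOf_one] at hz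
        exact absurd hz.symm hp.ne_one
      · rw [← e, Nat.card_zpowers, Subgroup.orderOf_coe, hz]
    obtain ⟨S, hS⟩ := H1.exists_invariant_sylow h.inv (h.coprime le_rfl) (Or.inl h.sol) p
    set P : Subgroup G := (S : Subgroup Y).map Y.subtype with hP
    have hPY : P ≤ Y := map_subtype_le _
    have hVP : V ≤ P := by
      haveI : (V.subgroupOf Y).Normal := normal_subgroupOf_of_le_normalizer hYV
      have hVg : IsPGroup p (V.subgroupOf Y) := IsPGroup.of_card (n := 1) (by
        rw [Nat.card_congr (subgroupOfEquivOfLe hVY).toEquiv, hVp, pow_one])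
      have := S.is_maximal' (S.isPGroup'.to_sup_of_normal_right hVg) le_sup_left
      intro v hv
      exact ⟨⟨v, hVY hv⟩, this.le (mem_sup_right hv), rfl⟩
    have hPlt : Nat.card P < Nat.card Y := by
      refine lt_of_le_of_ne (card_le_of_le hPY) fun e => hnil ?_
      have hPe : P = Y := eq_of_le_of_card_ge hPY e.ge
      have hg : IsPGroup p Y := hPe ▸ S.isPGroup'.map _
      exact hg.isNilpotent
    have hP0P : ⁅P, A⁆ ≤ P := H1.commutator_le_left_of_le_normalizer hS
    have hP0 : Setup A B ⁅P, A⁆ :=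
      { two := h.two, comm := h.comm, le := h.le
        odd := h.odd.of_dvd_nat (card_dvd_of_le (hP0P.trans hPY))
        inv := H1.right_le_normalizer_commutator
        eq := H1.commutator_commutator_eq hS (h.coprime hPY) (Or.inl h.sol) }
    have hJ : jGen A B ⁅P, A⁆ ≤ jGen A B Y := closure_mono fun x ⟨h1, h2, K, h3, h4⟩ =>
      ⟨hPY (hP0P h1), h2, K, h3, commutator_mono (inf_le_inf_right _ (hP0P.trans hPY)) le_rfl h4⟩
    refine done V hVY hne hYV hAV (inf_le_left.trans ?_)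
    refine fixed_central_case h hPY hVP hS ?_ hVp hcen hVA
      (h.quot_step hVY hne hYV hAV hsol ih')
      ((ih' _ _ _ hP0 (H1.isSolvable_mono hsol (hP0P.trans hPY))
        ((card_le_of_le hP0P).trans_lt hPlt)).trans hJ)
    rw [hP, Subgroup.subgroupOf, Subgroup.comap_map_eq_self_of_injective Y.subtype_injective]
    exact S.not_dvd_index

end H2.FixedGen
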