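/-
Goldschmidt's functor of a core-separated pair of four-groups.
-/
import Cfsg.Agent.H2.FixedGen.Main
import Cfsg.Agent.H71.Local
import Cfsg.Agent.H7.Balance
import Cfsg.Prelude.Def_Balance

set_option autoImplicit false
set_option linter.unusedSectionVars false

open Subgroup Cfsg Cfsg.Comp
open scoped commutatorElement

namespace H2.FixedGen

universe u

variable {X : Type u} [Group X] [Finite X]

/-- An element of an odd subgroup `D` normalised by a component `F`, normalising `F`, centralises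
`F`. -/
theorem component_commute_of_normalises (hO : pPrimeCore 2 X = ⊥) {F D : Subgroup X}
    (hF : IsComponent F) (hD : ¬ 2 ∣ Nat.card D) (hFD : F ≤ normalizer (D : Set X)) {y : X}
    (hy : y ∈ D) (hyF : y ∈ normalizer (F : Set X)) : ∀ x ∈ F, y * x = x * y := by
  haveI : Fact (Nat.Prime 2) := ⟨Nat.prime_two⟩
  have hn : ((F ⊓ D).subgroupOf F).Normal := normal_subgroupOf_of_le_normalizer
    (Cfsg.Comp.inf_le_normalizer le_normalizer hFD)
  have h1 : ⁅F, zpowers y⁆ ≤ F ⊓ D := by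
    refine le_inf (le_normalizer_iff_commutator_le_left.mp ((zpowers_le).mpr hyF)) ?_
    exact (commutator_mono le_rfl ((zpowers_le).mpr hy)).trans
      (le_normalizer_iff_commutator_le_right.mp hFD)
  have h2 : F ⊓ D ≤ centralizer (F : Set X) := by
    rcases normal_eq_top_or_le_center hF.2 hn with h | h
    · exact absurd ((dvd_card_component hO hF).trans
        (card_dvd_of_le ((subgroupOf_eq_top.mp h).trans inf_le_right))) hD
    · intro z hz
      exact mem_centralizer_iff.mpr fun x hx => congrArg Subtype.val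
        (mem_center_iff.mp (h (show (⟨z, hz.1⟩ : F) ∈ (F ⊓ D).subgroupOf F from hz)) ⟨x, hx⟩)
  intro x hx
  exact (commute_of_commutator_eq_bot (le_centralizer_of_perfect (isComponent_perfect hF)
    (h1.trans h2)) hx (mem_zpowers y)).symm

/-- In a group with trivial core an element of odd order centralising the components and the
2-core is trivial. -/
theorem eq_one_of_centralizes (hO : pPrimeCore 2 X = ⊥) {z : X} (hz : ¬ 2 ∣ orderOf z)
    (hL : ∀ F : Subgroup X, IsComponent F → ∀ x ∈ F, z * x = x * z)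
    (hP : z ∈ centralizer (pCore 2 X : Set X)) : z = 1 := by
  haveI : Fact (Nat.Prime 2) := ⟨Nat.prime_two⟩
  have hzL : z ∈ centralizer (layer X : Set X) := by
    have : layer X ≤ centralizer ({z} : Set X) := layer_le_iff.mpr fun F hF x hx =>
      mem_centralizer_singleton_iff.mpr (hL F hF x hx).symm
    exact mem_centralizer_iff.mpr fun x hx => mem_centralizer_singleton_iff.mp (this hx)
  have hFit := H71.fitting_le_pCore (p := 2) hO
  have hzS : z ∈ generalizedFittingSubgroup X := by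
    refine centralizer_fStar_le (mem_centralizer_iff.mpr fun x hx => ?_)
    have hle : generalizedFittingSubgroup X ≤ centralizer ({z} : Set X) :=
      sup_le (fun y hy => mem_centralizer_singleton_iff.mpr (mem_centralizer_iff.mp hzL y hy))
        fun y hy => mem_centralizer_singleton_iff.mpr (mem_centralizer_iff.mp hP y (hFit hy))
    exact mem_centralizer_singleton_iff.mp (hle hx)
  have hcomm : fittingSubgroup X ≤ centralizer (layer X : Set X) :=
    Subgroup.commutator_eq_bot_iff_le_centralizer.mp (by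
      rw [Subgroup.commutator_comm]; exact commutator_layer_fitting)
  have hmem : z ∈ pCore 2 X := by
    obtain ⟨l, hl, t, ht, rfl⟩ := H1.exists_mul_of_mem_sup
      (hcomm.trans (centralizer_le_normalizer _)) hzS
    have hlc : l ∈ centralizer (layer X : Set X) := by
      simpa using mul_mem hzL (inv_mem (hcomm ht))
    exact mul_mem (H71.layer_inf_centralizer_le_pCore hO (Subgroup.mem_inf.mpr ⟨hl, hlc⟩))
      (hFit ht)
  obtain ⟨k, hk⟩ := pCore_isPGroup 2 ⟨z, hmem⟩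
  exact eq_one_of_pow_eq_one (congrArg Subtype.val hk) hz (pow_orderOf_eq_one z)

variable {G : Type u} [Group G] [Finite G]

/-- The core of the centraliser of a subgroup, inside `G`. -/
abbrev coreOf (A : Subgroup G) : Subgroup G :=
  (Cfsg.oddCore ↥(centralizer (A : Set G))).map (centralizer (A : Set G)).subtype

/-- One factor of the functor. -/
abbrev fac (A : Subgroup G) (a : G) : Subgroup G :=
  ⁅centralizerPPrimeCore 2 a, A⁆ ⊔ (centralizerPPrimeCore 2 a ⊓ coreOf A)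

theorem odd_core (x : G) : Odd (Nat.card (centralizerPPrimeCore 2 x)) :=
  haveI : Fact (Nat.Prime 2) := ⟨Nat.prime_two⟩
  Nat.not_even_iff_odd.mp fun h => H7.not_dvd_centralizerPPrimeCore x (even_iff_two_dvd.mp h)

theorem centralizer_le_normalizer_coreOf (A : Subgroup G) :
    centralizer (A : Set G) ≤ normalizer (coreOf A : Set G) :=
  le_normalizer.trans (le_normalizer_map_subtype _)

theorem core_inf_le_coreOf {A : Subgroup G} {c : G} (hc : c ∈ A) :
    centralizerPPrimeCore 2 c ⊓ centralizer (A : Set G) ≤ coreOf A := by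
  haveI : Fact (Nat.Prime 2) := ⟨Nat.prime_two⟩
  have hle : centralizer (A : Set G) ≤ centralizer ({c} : Set G) :=
    centralizer_le (Set.singleton_subset_iff.mpr hc)
  set D := centralizerPPrimeCore 2 c ⊓ centralizer (A : Set G) with hD
  have hn : centralizer (A : Set G) ≤ normalizer (D : Set G) :=
    Cfsg.Comp.inf_le_normalizer
      (hle.trans (H7.centralizer_le_normalizer_centralizerPPrimeCore 2 c)) le_normalizer
  have hle2 : D ≤ centralizer (A : Set G) := inf_le_right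
  have h : D.subgroupOf (centralizer (A : Set G)) ≤ Cfsg.oddCore ↥(centralizer (A : Set G)) :=
    le_pPrimeCore (normal_subgroupOf_of_le_normalizer hn) (by
      rw [card_subgroupOf hle2]
      exact (((odd_core c).of_dvd_nat (card_dvd_of_le inf_le_left)).coprime_two_left).symm)
  exact (map_subgroupOf_eq_of_le hle2).ge.trans (Subgroup.map_mono h)

section pair

/-- What is used of a core-separated pair, with the chosen member first. -/
structure Sep (A A₁ A₂ : Subgroup G) : Prop where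
  four : Nat.card A₁ = 4
  elem : ∀ x ∈ A₁, x * x = 1
  two : IsPGroup 2 A₁
  comm : ∀ x ∈ A, ∀ y ∈ A, x * y = y * x
  sup : A = A₁ ⊔ A₂
  sep : ∀ a ∈ A, a ≠ 1 → ∀ E : Subgroup ↥(centralizer ({a} : Set G)), IsPComponent 2 E →
    ⁅E.map (centralizer ({a} : Set G)).subtype, A₁⁆ ≤ centralizerPPrimeCore 2 a ∨
    ⁅E.map (centralizer ({a} : Set G)).subtype, A₂⁆ ≤ centralizerPPrimeCore 2 a

namespace Sep

variable {A A₁ A₂ : Subgroup G} (h : Sep A A₁ A₂)
include h

theorem le₁ : A₁ ≤ A := h.sup.ge.trans' le_sup_left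

theorem le₂ : A₂ ≤ A := h.sup.ge.trans' le_sup_right

theorem le_centralizer {x : G} (hx : x ∈ A) : A ≤ centralizer ({x} : Set G) := fun y hy =>
  mem_centralizer_singleton_iff.mpr (h.comm y hy x hx)

theorem le_normalizer_core {x : G} (hx : x ∈ A) :
    A ≤ normalizer (centralizerPPrimeCore 2 x : Set G) :=
  (h.le_centralizer hx).trans (H7.centralizer_le_normalizer_centralizerPPrimeCore 2 x)

theorem le_normalizer_fac {x : G} (hx : x ∈ A) : A ≤ normalizer (fac A₁ x : Set G) := by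
  refine Cfsg.Comp.sup_le_normalizer ?_ (Cfsg.Comp.inf_le_normalizer (h.le_normalizer_core hx) ?_)
  · exact le_normalizer_comm (h.le_normalizer_core hx) (le_normalizer_of_comm h.comm h.le₁)
  · refine le_trans ?_ (centralizer_le_normalizer_coreOf A₁)
    exact fun y hy => mem_centralizer_iff.mpr fun z hz => h.comm z (h.le₁ hz) y hy

theorem fac_le {x : G} (hx : x ∈ A) : fac A₁ x ≤ centralizerPPrimeCore 2 x :=
  sup_le (H1.commutator_le_left_of_le_normalizer (h.le₁.trans (h.le_normalizer_core hx)))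
    inf_le_left

/-- The image of `O(C(a)) ∩ C(b)` in `C(b) / O(C(b))`. -/
theorem image {a b : G} (ha : a ∈ A) (ha1 : a ≠ 1) (ha2 : a * a = 1) (hb : b ∈ A) (hb1 : b ≠ 1) :
    let H := centralizer ({b} : Set G)
    let q := QuotientGroup.mk' (pPrimeCore 2 ↥H)
    (∀ F, IsComponent F →
      ((∀ t : ↥H, (t : G) ∈ A₁ → ∀ x ∈ F, q t * x = x * q t) ∨
        ∀ t : ↥H, (t : G) ∈ A₂ → ∀ x ∈ F, q t * x = x * q t)) ∧
    (∀ y : ↥H, (y : G) ∈ centralizerPPrimeCore 2 a →
      q y ∈ centralizer (pCore 2 (↥H ⧸ pPrimeCore 2 ↥H) : Set _) ∧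
      ∀ F, IsComponent F → q y ∈ normalizer (F : Set _) ∧
        ((∀ t : ↥H, (t : G) = a → ∀ x ∈ F, q t * x = x * q t) → ∀ x ∈ F, q y * x = x * q y)) := by
  intro H q
  haveI : Fact (Nat.Prime 2) := ⟨Nat.prime_two⟩
  have hAH : A ≤ H := h.le_centralizer hb
  refine ⟨fun F hF => ?_, fun y hy => ?_⟩
  · have key : ∀ A' : Subgroup G, A' ≤ A →
        ⁅(pGen 2 (F.comap q)).map H.subtype, A'⁆ ≤ centralizerPPrimeCore 2 b →
        ∀ t : ↥H, (t : G) ∈ A' → ∀ x ∈ F, q t * x = x * q t := by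
      intro A' _ hle t ht x hx
      rw [← map_pGen_comap (p := 2) hF] at hx
      obtain ⟨g, hg, rfl⟩ := hx
      have h1 := hle (commutator_mem_commutator ⟨g, hg, rfl⟩ ht)
      obtain ⟨w, hw, e⟩ := h1
      have e' : w = ⁅g, t⁆ := Subtype.ext (by simpa [commutatorElement_def] using e)
      have h2 : q ⁅g, t⁆ = 1 := (QuotientGroup.eq_one_iff _).mpr (e' ▸ hw)
      rw [map_commutatorElement] at h2
      exact (commutatorElement_eq_one_iff_mul_comm.mp h2).symm
    exact (h.sep b hb hb1 _ (isPComponent_pGen hF)).imp (key A₁ h.le₁) (key A₂ h.le₂)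
  · set R : Subgroup ↥H := zpowers (⟨a, hAH ha⟩ : ↥H) with hR
    set D : Subgroup ↥H := (centralizerPPrimeCore 2 a).subgroupOf H with hD
    have hRp : IsPGroup 2 R := H7.isPGroup_zpowers (p := 2) (by
      apply Subtype.ext; simpa [pow_two] using ha2)
    have hCD : centralizer (R : Set ↥H) ≤ normalizer (D : Set ↥H) := by
      intro z hz
      have hza : (z : G) ∈ centralizer ({a} : Set G) := mem_centralizer_singleton_iff.mpr
        (congrArg Subtype.val (mem_centralizer_iff.mp hz _ (mem_zpowers _))).symm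
      refine mem_normalizer_iff.mpr fun w => ?_
      exact mem_normalizer_iff.mp (H7.centralizer_le_normalizer_centralizerPPrimeCore 2 a hza) w
    have hRD : R ≤ centralizer (D : Set ↥H) := (zpowers_le).mpr (mem_centralizer_iff.mpr fun w hw =>
      Subtype.ext (mem_centralizer_singleton_iff.mp
        (H7.centralizerPPrimeCore_le 2 a (mem_subgroupOf.mp hw))))
    have hDodd : ¬ 2 ∣ Nat.card D := fun hd => by
      have h1 := hd.trans (card_dvd_of_injective
        ((H.subtype.comp D.subtype).codRestrict (centralizerPPrimeCore 2 a) fun x => x.2)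
        (fun x x' e => Subtype.ext (Subtype.ext (congrArg Subtype.val e :))))
      exact H7.not_dvd_centralizerPPrimeCore a h1
    have hDodd' : ¬ 2 ∣ Nat.card (D.map q) := fun hd => hDodd (hd.trans (card_map_dvd D q))
    have hres := H71.core_acts_trivially (pPrimeCore_quotient_eq_bot (G := ↥H) (p := 2))
      (hRp.map q) hDodd'
      ((Subgroup.map_mono (hRD.trans (centralizer_le_normalizer _))).trans
        (le_normalizer_map q))
      ((Subgroup.map_mono ((le_centralizer_iff.mp hRD).trans (centralizer_le_normalizer _))).trans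
        (le_normalizer_map q))
      (by
        intro z hz
        obtain ⟨c, hc, rfl⟩ := H71.exists_lift_centralizer (not_dvd_card_pPrimeCore 2) hRp hz
        exact le_normalizer_map q ⟨c, hCD hc, rfl⟩)
      (y := q y) ⟨y, hy, rfl⟩
    refine ⟨hres.2.2.1, fun F hF => ⟨hres.2.2.2.1 F hF, fun hc => ?_⟩⟩
    refine component_commute_of_normalises pPrimeCore_quotient_eq_bot hF hDodd' ?_ ⟨y, hy, rfl⟩
      (hres.2.2.2.1 F hF)
    intro x hx
    obtain ⟨c, hc', rfl⟩ := H71.exists_lift_centralizer (not_dvd_card_pPrimeCore 2) hRp (z := x)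
      (mem_centralizer_iff.mpr fun r hr => by
        obtain ⟨r, hr, rfl⟩ := hr
        obtain ⟨i, rfl⟩ := Subgroup.mem_zpowers_iff.mp hr
        rw [map_zpow]
        exact (Commute.zpow_left (hc _ rfl x hx) i).eq)
    exact le_normalizer_map q ⟨c, hCD hc', rfl⟩

/-- The key step: `⁅O(C(a)) ∩ C(c), A₁⁆ ≤ O(C(c))` for `c ∈ A₁`. -/
theorem comm_core_le {a c : G} (ha : a ∈ A) (ha1 : a ≠ 1) (ha2 : a * a = 1) (hc : c ∈ A₁)
    (hc1 : c ≠ 1) :
    ⁅centralizerPPrimeCore 2 a ⊓ centralizer ({c} : Set G), A₁⁆ ≤ centralizerPPrimeCore 2 c := by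
  haveI : Fact (Nat.Prime 2) := ⟨Nat.prime_two⟩
  set H := centralizer ({c} : Set G) with hH
  set q := QuotientGroup.mk' (pPrimeCore 2 ↥H) with hq
  obtain ⟨hsepF, him⟩ := h.image ha ha1 ha2 (h.le₁ hc) hc1
  have hAH : A ≤ H := h.le_centralizer (h.le₁ hc)
  rw [commutator_le]
  intro w hw t ht
  obtain ⟨hwO, hwH⟩ := Subgroup.mem_inf.mp hw
  have htA := h.le₁ ht
  have hcomW : ⁅w, t⁆ ∈ centralizerPPrimeCore 2 a := by
    rw [commutatorElement_def, show w * t * w⁻¹ * t⁻¹ = w * (t * w⁻¹ * t⁻¹) by group]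
    exact mul_mem hwO ((mem_normalizer_iff.mp (h.le_normalizer_core ha htA) _).mp (inv_mem hwO))
  suffices he : q ⁅(⟨w, hwH⟩ : ↥H), ⟨t, hAH htA⟩⁆ = 1 from
    ⟨_, (QuotientGroup.eq_one_iff _).mp he, by simp [commutatorElement_def]⟩
  obtain ⟨hPz, -⟩ := him ⁅(⟨w, hwH⟩ : ↥H), ⟨t, hAH htA⟩⁆ (by
    simpa [commutatorElement_def] using hcomW)
  refine eq_one_of_centralizes pPrimeCore_quotient_eq_bot ?_ ?_ hPz
  · intro hd
    refine H7.not_dvd_centralizerPPrimeCore (p := 2) a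
      (hd.trans ((orderOf_map_dvd q _).trans ?_))
    rw [← Subgroup.orderOf_coe]
    exact Subgroup.orderOf_dvd_natCard _ (by simpa [commutatorElement_def] using hcomW)
  intro F hF x hx
  -- `q s` centralising `F` gives `q ⁅w, s⁆` centralising `F`
  have hwF := ((him ⟨w, hwH⟩ hwO).2 F hF).1
  have case1 : ∀ s : ↥H, (∀ x ∈ F, q s * x = x * q s) →
      ∀ x ∈ F, q ⁅(⟨w, hwH⟩ : ↥H), s⁆ * x = x * q ⁅(⟨w, hwH⟩ : ↥H), s⁆ := by
    intro s hs x hx
    rw [map_commutatorElement]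
    set u := q ⟨w, hwH⟩ with hu
    have hux : u⁻¹ * x * u ∈ F := by
      simpa using (mem_normalizer_iff.mp (inv_mem hwF) x).mp hx
    have e1 : u * q s * u⁻¹ * x = x * (u * q s * u⁻¹) := by
      calc u * q s * u⁻¹ * x = u * (q s * (u⁻¹ * x * u)) * u⁻¹ := by group
        _ = u * ((u⁻¹ * x * u) * q s) * u⁻¹ := by rw [hs _ hux]
        _ = x * (u * q s * u⁻¹) := by group
    have e2 : (q s)⁻¹ * x = x * (q s)⁻¹ := by
      calc (q s)⁻¹ * x = (q s)⁻¹ * (x * q s) * (q s)⁻¹ := by group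
        _ = x * (q s)⁻¹ := by rw [← hs x hx]; group
    rw [commutatorElement_def]
    calc u * q s * u⁻¹ * (q s)⁻¹ * x = (u * q s * u⁻¹) * ((q s)⁻¹ * x) := by group
      _ = (u * q s * u⁻¹ * x) * (q s)⁻¹ := by rw [e2]; group
      _ = x * (u * q s * u⁻¹ * (q s)⁻¹) := by rw [e1]; group
  rcases hsepF F hF with hF1 | hF2
  · exact case1 _ (hF1 _ ht) x hx
  by_cases hca : ∀ x ∈ F, q ⟨a, hAH ha⟩ * x = x * q ⟨a, hAH ha⟩
  · -- `a` centralises `F` and its image under `t`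
    have key : ∀ F', IsComponent F' →
        (∀ x ∈ F', q ⟨a, hAH ha⟩ * x = x * q ⟨a, hAH ha⟩) →
        ∀ x ∈ F', q ⟨w, hwH⟩ * x = x * q ⟨w, hwH⟩ := fun F' hF' h' =>
      ((him ⟨w, hwH⟩ hwO).2 F' hF').2 fun s hs => by
        rw [show s = (⟨a, hAH ha⟩ : ↥H) from Subtype.ext hs]; exact h'
    set s := q ⟨t, hAH htA⟩ with hs
    set u := q ⟨w, hwH⟩ with hu
    set F' := F.map (MulAut.conj s⁻¹).toMonoidHom with hF'
    have hsa : s * q ⟨a, hAH ha⟩ = q ⟨a, hAH ha⟩ * s := by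
      rw [hs, ← map_mul, ← map_mul]
      exact congrArg q (Subtype.ext (h.comm t htA a ha))
    have hk := key F' (isComponent_conj hF _) (by
      rintro _ ⟨z, hz, rfl⟩
      show q ⟨a, hAH ha⟩ * (s⁻¹ * z * s⁻¹⁻¹) = s⁻¹ * z * s⁻¹⁻¹ * q ⟨a, hAH ha⟩
      have hsa' : s⁻¹ * q ⟨a, hAH ha⟩ = q ⟨a, hAH ha⟩ * s⁻¹ := by
        calc s⁻¹ * q ⟨a, hAH ha⟩ = s⁻¹ * (q ⟨a, hAH ha⟩ * s) * s⁻¹ := by group
          _ = q ⟨a, hAH ha⟩ * s⁻¹ := by rw [← hsa]; group
      rw [inv_inv]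
      calc q ⟨a, hAH ha⟩ * (s⁻¹ * z * s) = (q ⟨a, hAH ha⟩ * s⁻¹) * z * s := by group
        _ = s⁻¹ * (q ⟨a, hAH ha⟩ * z) * s := by rw [← hsa']; group
        _ = s⁻¹ * (z * q ⟨a, hAH ha⟩) * s := by rw [hca z hz]
        _ = s⁻¹ * z * (q ⟨a, hAH ha⟩ * s) := by group
        _ = s⁻¹ * z * s * q ⟨a, hAH ha⟩ := by rw [← hsa]; group)
    have hux := key F hF hca x hx
    have h1 : u * (s⁻¹ * x * s) = (s⁻¹ * x * s) * u := hk _ ⟨x, hx, by simp⟩
    rw [map_commutatorElement, commutatorElement_def]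
    have e1 : s * u⁻¹ * s⁻¹ * x = x * (s * u⁻¹ * s⁻¹) := by
      calc s * u⁻¹ * s⁻¹ * x = s * (u⁻¹ * ((s⁻¹ * x * s) * u)) * u⁻¹ * s⁻¹ := by group
        _ = s * (u⁻¹ * (u * (s⁻¹ * x * s))) * u⁻¹ * s⁻¹ := by rw [h1]
        _ = _ := by group
    calc u * s * u⁻¹ * s⁻¹ * x = u * (s * u⁻¹ * s⁻¹ * x) := by group
      _ = (u * x) * (s * u⁻¹ * s⁻¹) := by rw [e1]; group
      _ = x * (u * s * u⁻¹ * s⁻¹) := by rw [hux]; group
  -- otherwise `A₁` is covered by `a` and the part centralising `F`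
  set S : Subgroup G := A ⊓ ((centralizer (F : Set _)).comap q).map H.subtype with hS
  have hmemS : ∀ s : ↥H, (s : G) ∈ A → (∀ x ∈ F, q s * x = x * q s) → (s : G) ∈ S :=
    fun s hs hc' => ⟨hs, s, mem_centralizer_iff.mpr fun x hx => (hc' x hx).symm, rfl⟩
  have hS2 : A₂ ≤ S := fun s hs => hmemS ⟨s, hAH (h.le₂ hs)⟩ (h.le₂ hs) (hF2 _ hs)
  have hcS : c ∈ S := hmemS ⟨c, hAH (h.le₁ hc)⟩ (h.le₁ hc) fun x _ => by
    obtain ⟨g, rfl⟩ := QuotientGroup.mk'_surjective _ x
    rw [← map_mul, ← map_mul]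
    exact congrArg q (Subtype.ext (mem_centralizer_singleton_iff.mp g.2).symm)
  set T : Subgroup G := S ⊔ zpowers a with hT
  obtain ⟨a₁, ha₁, a₂, ha₂, rfl⟩ := H1.exists_mul_of_mem_sup
    (le_normalizer_of_comm h.comm h.le₁ |>.trans' h.le₂) (h.sup ▸ ha : a ∈ A₁ ⊔ A₂)
  have ha₁T : a₁ ∈ T := by
    have := mul_mem (mem_sup_right (mem_zpowers (a₁ * a₂)) : a₁ * a₂ ∈ T)
      (inv_mem (mem_sup_left (hS2 ha₂) : a₂ ∈ T))
    simpa using this
  have ha₁c : a₁ ∉ zpowers c := fun hm => hca fun x hx => by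
    have hmem : a₁ * a₂ ∈ S := mul_mem ((zpowers_le.mpr hcS) hm) (hS2 ha₂)
    obtain ⟨g, hg, e⟩ := (Subgroup.mem_inf.mp hmem).2
    rw [show (⟨a₁ * a₂, hAH ha⟩ : ↥H) = g from Subtype.ext e.symm]
    exact (mem_centralizer_iff.mp hg x hx).symm
  have hA₁T : A₁ ≤ T := by
    set K := zpowers c ⊔ zpowers a₁ with hK
    have hK1 : K ≤ A₁ := sup_le (zpowers_le.mpr hc) (zpowers_le.mpr ha₁)
    have hK2 : K ≤ T := sup_le (zpowers_le.mpr (mem_sup_left hcS)) (zpowers_le.mpr ha₁T)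
    refine le_trans (le_of_eq (eq_of_le_of_card_ge hK1 ?_).symm) hK2
    have hlt : Nat.card (zpowers c) < Nat.card K := by
      refine lt_of_le_of_ne (card_le_of_le le_sup_left) fun e => ha₁c ?_
      rw [eq_of_le_of_card_ge (le_sup_left : zpowers c ≤ K) e.ge]
      exact mem_sup_right (mem_zpowers a₁)
    have hd := h.four ▸ card_dvd_of_le hK1
    have h2 : Nat.card (zpowers c) = 2 := by
      rw [Nat.card_zpowers]
      exact orderOf_eq_prime (by rw [pow_two]; exact h.elem c hc) hc1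
    rw [h.four]
    have := Nat.le_of_dvd (by norm_num) hd
    interval_cases hn : Nat.card K <;> omega
  obtain ⟨s, hs, z, hz, e⟩ := H1.exists_mul_of_mem_sup (D := S)
    ((zpowers_le.mpr ha).trans (le_normalizer_of_comm h.comm inf_le_left)) (hA₁T ht)
  obtain ⟨j, rfl⟩ := Subgroup.mem_zpowers_iff.mp hz
  obtain ⟨g, hg, eg⟩ := (Subgroup.mem_inf.mp hs).2
  have hwj : w * (a₁ * a₂) ^ j = (a₁ * a₂) ^ j * w :=
    ((show Commute w (a₁ * a₂) from
      mem_centralizer_singleton_iff.mp (H7.centralizerPPrimeCore_le 2 _ hwO)).zpow_right j).eq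
  have ecomm : ⁅w, s * (a₁ * a₂) ^ j⁆ = ⁅w, s⁆ := by
    simp only [commutatorElement_def, mul_inv_rev]
    set z := (a₁ * a₂) ^ j with hzdef
    have hwj' : z * w⁻¹ = w⁻¹ * z := by
      calc z * w⁻¹ = w⁻¹ * (w * z) * w⁻¹ := by group
        _ = w⁻¹ * z := by rw [hwj]; group
    calc w * (s * z) * w⁻¹ * (z⁻¹ * s⁻¹) = w * s * (z * w⁻¹) * z⁻¹ * s⁻¹ := by group
      _ = _ := by rw [hwj']; group
  have eq1 : ⁅(⟨w, hwH⟩ : ↥H), (⟨t, hAH htA⟩ : ↥H)⁆ = ⁅(⟨w, hwH⟩ : ↥H), g⁆ := Subtype.ext (by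
    show ⁅w, t⁆ = ⁅w, (g : G)⁆
    rw [e, ecomm, show (g : G) = s from eg])
  rw [eq1]
  exact case1 g (fun x hx => (mem_centralizer_iff.mp hg x hx).symm) x hx

/-- The fixed points of `A₁` in `⁅O(C(a)), A₁⁆` lie in `O(C(A₁))`. -/
theorem fixed_comm_le (hsol : ∀ Y : Subgroup G, Odd (Nat.card Y) → Group.IsSolvable Y) {a : G}
    (ha : a ∈ A) (ha1 : a ≠ 1) (ha2 : a * a = 1) :
    ⁅centralizerPPrimeCore 2 a, A₁⁆ ⊓ centralizer (A₁ : Set G) ≤ coreOf A₁ := by
  set Y := ⁅centralizerPPrimeCore 2 a, A₁⁆ with hY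
  have hn := h.le₁.trans (h.le_normalizer_core ha)
  have hYO : Y ≤ centralizerPPrimeCore 2 a := H1.commutator_le_left_of_le_normalizer hn
  have hodd : Odd (Nat.card Y) := (odd_core a).of_dvd_nat (card_dvd_of_le hYO)
  have hsA : Group.IsSolvable A₁ := Group.isSolvable_of_comm fun x y =>
    Subtype.ext (h.comm x (h.le₁ x.2) y (h.le₁ y.2))
  have hS : Setup A₁ A₁ Y :=
    { two := h.two
      comm := fun x hx y hy => h.comm x (h.le₁ hx) y (h.le₁ hy)
      le := le_rfl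
      odd := hodd
      inv := H1.right_le_normalizer_commutator
      eq := H1.commutator_commutator_eq hn (by
        rw [h.four]
        exact Nat.Coprime.pow_left 2 (odd_core a).coprime_two_left) (Or.inl hsA) }
  refine (fixed_le hS (hsol Y hodd)).trans ((closure_le _).mpr ?_)
  rintro z ⟨hzY, hzA, K, ⟨hK, b, hb, hcyc⟩, hzW⟩
  by_cases hK0 : K = ⊥
  · exfalso
    have hle : A₁ ≤ zpowers b := fun x hx => by
      obtain ⟨i, hi⟩ := hcyc x hx
      rw [hK0, Subgroup.mem_bot, inv_mul_eq_one] at hi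
      exact hi ▸ zpow_mem (mem_zpowers b) i
    have h4 : 4 ≤ Nat.card (zpowers b) := h.four ▸ card_le_of_le hle
    rw [Nat.card_zpowers] at h4
    have := Nat.le_of_dvd two_pos
      (orderOf_dvd_of_pow_eq_one (n := 2) (x := b) (by rw [pow_two]; exact h.elem b hb))
    omega
  obtain ⟨c, hc, hc1⟩ : ∃ c ∈ K, c ≠ (1 : G) := by
    by_contra hcon
    push Not at hcon
    exact hK0 ((eq_bot_iff_forall _).mpr hcon)
  refine core_inf_le_coreOf (hK hc) (Subgroup.mem_inf.mpr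
    ⟨h.comm_core_le ha ha1 ha2 (hK hc) hc1 (commutator_mono ?_ le_rfl hzW), hzA⟩)
  exact inf_le_inf hYO (centralizer_le (Set.singleton_subset_iff.mpr hc))

theorem fixed_fac_le (hsol : ∀ Y : Subgroup G, Odd (Nat.card Y) → Group.IsSolvable Y) {a : G}
    (ha : a ∈ A) (ha1 : a ≠ 1) (ha2 : a * a = 1) :
    fac A₁ a ⊓ centralizer (A₁ : Set G) ≤ coreOf A₁ := by
  intro x hx
  obtain ⟨hxF, hxC⟩ := Subgroup.mem_inf.mp hx
  obtain ⟨u, hu, k, hk, rfl⟩ := H1.exists_mul_of_mem_sup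
    (inf_le_left.trans H1.left_le_normalizer_commutator) hxF
  have hkC : k ∈ centralizer (A₁ : Set G) := map_subtype_le _ (Subgroup.mem_inf.mp hk).2
  have huC : u ∈ centralizer (A₁ : Set G) := by simpa using mul_mem hxC (inv_mem hkC)
  exact mul_mem (h.fixed_comm_le hsol ha ha1 ha2 (Subgroup.mem_inf.mpr ⟨hu, huC⟩))
    (Subgroup.mem_inf.mp hk).2

/-- Coprime decomposition of an invariant part of a factor. -/
theorem decomp (hsol : ∀ Y : Subgroup G, Odd (Nat.card Y) → Group.IsSolvable Y) {a : G}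
    (ha : a ∈ A) (ha1 : a ≠ 1) (ha2 : a * a = 1) {Q : Subgroup G} (hQ : Q ≤ fac A₁ a)
    (hQn : A₁ ≤ normalizer (Q : Set G)) {x : G} (hx : x ∈ Q) :
    ∃ m ∈ ⁅Q, A₁⁆, ∃ k ∈ Q ⊓ coreOf A₁, x = m * k := by
  have hodd : Odd (Nat.card Q) :=
    (odd_core a).of_dvd_nat (card_dvd_of_le (hQ.trans (h.fac_le ha)))
  rw [← H1.commutator_sup_centralizer_eq hQn
    (by rw [h.four]; exact Nat.Coprime.pow_left 2 hodd.coprime_two_left)
    (Or.inr (hsol Q hodd))] at hx
  obtain ⟨m, hm, k, hk, rfl⟩ := H1.exists_mul_of_mem_sup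
    (inf_le_left.trans H1.left_le_normalizer_commutator) hx
  obtain ⟨hkQ, hkC⟩ := Subgroup.mem_inf.mp hk
  exact ⟨m, hm, k, Subgroup.mem_inf.mpr
    ⟨hkQ, h.fixed_fac_le hsol ha ha1 ha2 (Subgroup.mem_inf.mpr ⟨hQ hkQ, hkC⟩)⟩, rfl⟩

/-- An element of a factor at `a` fixed by `b` centralises the components of `C(b)/O(C(b))`
centralised by `A₁`. -/
theorem fac_centralizes (hsol : ∀ Y : Subgroup G, Odd (Nat.card Y) → Group.IsSolvable Y) {a b : G}
    (ha : a ∈ A) (ha1 : a ≠ 1) (ha2 : a * a = 1) (hb : b ∈ A) (hb1 : b ≠ 1) :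
    ∀ {F : Subgroup (↥(centralizer ({b} : Set G)) ⧸ pPrimeCore 2 ↥(centralizer ({b} : Set G)))},
      IsComponent F →
      (∀ t : ↥(centralizer ({b} : Set G)), (t : G) ∈ A₁ → ∀ x ∈ F,
        QuotientGroup.mk' _ t * x = x * QuotientGroup.mk' _ t) →
      ∀ y : ↥(centralizer ({b} : Set G)), (y : G) ∈ fac A₁ a →
        ∀ x ∈ F, QuotientGroup.mk' _ y * x = x * QuotientGroup.mk' _ y := by
  haveI : Fact (Nat.Prime 2) := ⟨Nat.prime_two⟩
  set H := centralizer ({b} : Set G) with hH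
  set q := QuotientGroup.mk' (pPrimeCore 2 ↥H) with hq
  intro F hF hF1 y hy
  obtain ⟨-, him⟩ := h.image ha ha1 ha2 hb hb1
  have hAH : A ≤ H := h.le_centralizer hb
  have hQn : A₁ ≤ normalizer ((fac A₁ a ⊓ H : Subgroup G) : Set G) :=
    Cfsg.Comp.inf_le_normalizer (h.le₁.trans (h.le_normalizer_fac ha))
      ((h.le₁.trans hAH).trans le_normalizer)
  obtain ⟨m, hm, k, hk, e⟩ := h.decomp hsol ha ha1 ha2 inf_le_left hQn
    (Subgroup.mem_inf.mpr ⟨hy, y.2⟩)
  have hQO : ∀ w ∈ fac A₁ a ⊓ H, w ∈ centralizerPPrimeCore 2 a := fun w hw =>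
    h.fac_le ha hw.1
  -- the commutator part
  set C : Subgroup G := ((centralizer (F : Set _)).comap q).map H.subtype with hC
  have hmC : m ∈ C := by
    refine (commutator_le.mpr fun w hw t ht => ?_) hm
    have hwF := ((him ⟨w, hw.2⟩ (hQO w hw)).2 F hF).1
    refine ⟨⁅(⟨w, hw.2⟩ : ↥H), ⟨t, hAH (h.le₁ ht)⟩⁆, mem_centralizer_iff.mpr fun x hx => ?_,
      by simp [commutatorElement_def]⟩
    rw [map_commutatorElement]
    set u := q ⟨w, hw.2⟩ with hu
    set s := q ⟨t, hAH (h.le₁ ht)⟩ with hs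
    have hsx : ∀ x ∈ F, s * x = x * s := hF1 _ ht
    have hux : u⁻¹ * x * u ∈ F := by
      simpa using (mem_normalizer_iff.mp (inv_mem hwF) x).mp hx
    have e1 : u * s * u⁻¹ * x = x * (u * s * u⁻¹) := by
      calc u * s * u⁻¹ * x = u * (s * (u⁻¹ * x * u)) * u⁻¹ := by group
        _ = u * ((u⁻¹ * x * u) * s) * u⁻¹ := by rw [hsx _ hux]
        _ = x * (u * s * u⁻¹) := by group
    have e2 : s⁻¹ * x = x * s⁻¹ := by
      calc s⁻¹ * x = s⁻¹ * (x * s) * s⁻¹ := by group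
        _ = x * s⁻¹ := by rw [← hsx x hx]; group
    rw [commutatorElement_def]
    calc x * (u * s * u⁻¹ * s⁻¹) = (x * (u * s * u⁻¹)) * s⁻¹ := by group
      _ = u * s * u⁻¹ * (x * s⁻¹) := by rw [← e1]; group
      _ = u * s * u⁻¹ * s⁻¹ * x := by rw [← e2]; group
  -- the part in the core of `C(A₁)`
  obtain ⟨hkQ, hkK⟩ := Subgroup.mem_inf.mp hk
  have hkC : k ∈ C := by
    set D : Subgroup ↥H := (coreOf A₁).subgroupOf H with hD
    have hDodd : ¬ 2 ∣ Nat.card D := fun hd => by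
      have h1 := hd.trans (card_dvd_of_injective
        ((H.subtype.comp D.subtype).codRestrict (coreOf A₁) fun x => x.2)
        (fun x x' e => Subtype.ext (Subtype.ext (congrArg Subtype.val e :))))
      rw [card_map_subtype] at h1
      exact not_dvd_card_pPrimeCore 2 h1
    set R : Subgroup ↥H := A₁.subgroupOf H with hR
    have hRp : IsPGroup 2 R := h.two.of_equiv (subgroupOfEquivOfLe (h.le₁.trans hAH)).symm
    have hDn : F ≤ normalizer (D.map q : Set _) := by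
      intro x hx
      obtain ⟨z, hz, rfl⟩ := H71.exists_lift_centralizer (not_dvd_card_pPrimeCore 2) hRp (z := x)
        (mem_centralizer_iff.mpr fun r hr => by
          obtain ⟨r, hr, rfl⟩ := hr
          exact hF1 r (mem_subgroupOf.mp hr) x hx)
      refine le_normalizer_map q ⟨z, ?_, rfl⟩
      have hzG : (z : G) ∈ centralizer (A₁ : Set G) := mem_centralizer_iff.mpr fun t ht =>
        congrArg Subtype.val (mem_centralizer_iff.mp hz ⟨t, hAH (h.le₁ ht)⟩ (mem_subgroupOf.mpr ht))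
      refine mem_normalizer_iff.mpr fun w => ?_
      exact mem_normalizer_iff.mp (centralizer_le_normalizer_coreOf A₁ hzG) w
    have hc := component_commute_of_normalises pPrimeCore_quotient_eq_bot hF
      (fun hd => hDodd (hd.trans (card_map_dvd D q))) hDn
      (y := q ⟨k, hkQ.2⟩) ⟨_, mem_subgroupOf.mpr hkK, rfl⟩
      ((him ⟨k, hkQ.2⟩ (hQO k hkQ)).2 F hF).1
    exact ⟨⟨k, hkQ.2⟩, mem_centralizer_iff.mpr fun x hx => (hc x hx).symm, rfl⟩
  obtain ⟨g, hg, eg⟩ := e ▸ mul_mem hmC hkC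
  intro x hx
  rw [show y = g from Subtype.ext eg.symm]
  exact (mem_centralizer_iff.mp hg x hx).symm

end Sep

/-- Goldschmidt's functor is balanced. -/
theorem functor_balanced {A A₁ A₂ : Subgroup G} (h₁ : Sep A A₁ A₂) (h₂ : Sep A A₂ A₁)
    (hsol : ∀ Y : Subgroup G, Odd (Nat.card Y) → Group.IsSolvable Y) {a b : G}
    (ha : a ∈ A) (ha1 : a ≠ 1) (ha2 : a * a = 1) (hb : b ∈ A) (hb1 : b ≠ 1) :
    (fac A₁ a ⊓ fac A₂ a) ⊓ centralizer ({b} : Set G) ≤ fac A₁ b ⊓ fac A₂ b := by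
  haveI : Fact (Nat.Prime 2) := ⟨Nat.prime_two⟩
  intro x hx
  obtain ⟨hxF, hxH⟩ := Subgroup.mem_inf.mp hx
  obtain ⟨hx1, hx2⟩ := Subgroup.mem_inf.mp hxF
  set H := centralizer ({b} : Set G) with hH
  set q := QuotientGroup.mk' (pPrimeCore 2 ↥H) with hq
  have hxO : x ∈ centralizerPPrimeCore 2 b := by
    obtain ⟨hsepF, him⟩ := h₁.image ha ha1 ha2 hb hb1
    obtain ⟨hP, -⟩ := him ⟨x, hxH⟩ (h₁.fac_le ha hx1)
    suffices he : q ⟨x, hxH⟩ = 1 from ⟨_, (QuotientGroup.eq_one_iff _).mp he, rfl⟩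
    refine eq_one_of_centralizes pPrimeCore_quotient_eq_bot ?_ ?_ hP
    · intro hd
      refine H7.not_dvd_centralizerPPrimeCore (p := 2) a
        (hd.trans ((orderOf_map_dvd q _).trans ?_))
      rw [← Subgroup.orderOf_coe]
      exact Subgroup.orderOf_dvd_natCard _ (h₁.fac_le ha hx1)
    intro F hF
    rcases hsepF F hF with hF1 | hF2
    · exact h₁.fac_centralizes hsol ha ha1 ha2 hb hb1 hF hF1 ⟨x, hxH⟩ hx1
    · exact h₂.fac_centralizes hsol ha ha1 ha2 hb hb1 hF hF2 ⟨x, hxH⟩ hx2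
  have key : ∀ {B B' : Subgroup G}, Sep A B B' → x ∈ fac B a → x ∈ fac B b := by
    intro B B' hS hxB
    obtain ⟨m, hm, k, hk, rfl⟩ := hS.decomp hsol ha ha1 ha2
      (Q := fac B a ⊓ centralizerPPrimeCore 2 b) inf_le_left
      (Cfsg.Comp.inf_le_normalizer (hS.le₁.trans (hS.le_normalizer_fac ha))
        (hS.le₁.trans (hS.le_normalizer_core hb)))
      (Subgroup.mem_inf.mpr ⟨hxB, hxO⟩)
    obtain ⟨hkQ, hkK⟩ := Subgroup.mem_inf.mp hk
    exact mul_mem (mem_sup_left (commutator_mono inf_le_right le_rfl hm))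
      (mem_sup_right (Subgroup.mem_inf.mpr ⟨(Subgroup.mem_inf.mp hkQ).2, hkK⟩))
  exact Subgroup.mem_inf.mpr ⟨key h₁ hx1, key h₂ hx2⟩

/-- Goldschmidt's functor of a core-separated pair is a signalizer functor. -/
theorem isSignalizerFunctor (hsol : ∀ Y : Subgroup G, Odd (Nat.card Y) → Group.IsSolvable Y)
    {A₁ A₂ : Subgroup G} (hcs : IsCoreSeparated A₁ A₂) :
    IsSignalizerFunctor 2 (A₁ ⊔ A₂) (fun a => fac A₁ a ⊓ fac A₂ a) := by
  haveI : Fact (Nat.Prime 2) := ⟨Nat.prime_two⟩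
  obtain ⟨he₁, he₂, hc₁, hc₂, -, -, hcomm, hsep⟩ := hcs
  have hcommA : ∀ x ∈ A₁ ⊔ A₂, ∀ y ∈ A₁ ⊔ A₂, x * y = y * x := by
    intro x hx y hy
    have h1 : A₁ ⊔ A₂ ≤ centralizer ((A₁ ⊔ A₂ : Subgroup G) : Set G) := by
      refine sup_le ?_ ?_ <;> rw [le_centralizer_iff] <;> refine sup_le ?_ ?_ <;> intro z hz <;>
        refine mem_centralizer_iff.mpr fun w hw => ?_
      · exact congrArg Subtype.val (he₁.1.is_comm.comm (⟨w, hw⟩ : A₁) ⟨z, hz⟩)
      · exact hcomm w hw z hz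
      · exact (hcomm z hz w hw).symm
      · exact congrArg Subtype.val (he₂.1.is_comm.comm (⟨w, hw⟩ : A₂) ⟨z, hz⟩)
    exact mem_centralizer_iff.mp (h1 hy) x hx
  have mk : ∀ B B' : Subgroup G, IsElementaryAbelian 2 B → Nat.card B = 4 →
      A₁ ⊔ A₂ = B ⊔ B' →
      (∀ a ∈ A₁ ⊔ A₂, a ≠ 1 → ∀ E : Subgroup ↥(centralizer ({a} : Set G)), IsPComponent 2 E →
        ⁅E.map (centralizer ({a} : Set G)).subtype, B⁆ ≤ centralizerPPrimeCore 2 a ∨
        ⁅E.map (centralizer ({a} : Set G)).subtype, B'⁆ ≤ centralizerPPrimeCore 2 a) →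
      Sep (A₁ ⊔ A₂) B B' := fun B B' hB hc hs hsep' =>
    { four := hc
      elem := fun x hx => by rw [← pow_two]; exact hB.2 x hx
      two := IsPGroup.of_card (n := 2) hc
      comm := hcommA
      sup := hs
      sep := hsep' }
  have S₁ := mk A₁ A₂ he₁ hc₁ rfl hsep
  have S₂ := mk A₂ A₁ he₂ hc₂ (sup_comm _ _) fun a ha ha1 E hE => (hsep a ha ha1 E hE).symm
  have hsq : ∀ a ∈ A₁ ⊔ A₂, a * a = 1 := by
    intro a ha
    obtain ⟨x, hx, y, hy, rfl⟩ := H1.exists_mul_of_mem_sup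
      ((le_normalizer_of_comm hcommA le_sup_left).trans' le_sup_right) ha
    calc x * y * (x * y) = x * (y * x) * y := by group
      _ = (x * x) * (y * y) := by rw [← hcomm x hx y hy]; group
      _ = 1 := by rw [S₁.elem x hx, S₂.elem y hy, one_mul]
  refine ⟨fun a ha ha1 => ?_, fun a ha ha1 => ?_, fun a ha ha1 b hb x hx => ?_,
    fun a ha ha1 b hb hb1 => functor_balanced S₁ S₂ hsol ha ha1 (hsq a ha) hb hb1⟩
  · exact inf_le_left.trans ((S₁.fac_le ha).trans (H7.centralizerPPrimeCore_le 2 a))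
  · exact fun hd => H7.not_dvd_centralizerPPrimeCore (p := 2) a
      (hd.trans (card_dvd_of_le (inf_le_left.trans (S₁.fac_le ha))))
  · have hn : A₁ ⊔ A₂ ≤ normalizer ((fac A₁ a ⊓ fac A₂ a : Subgroup G) : Set G) :=
      Cfsg.Comp.inf_le_normalizer (S₁.le_normalizer_fac ha) (S₂.le_normalizer_fac ha)
    exact (mem_normalizer_iff.mp (hn hb) x).mp hx

end pair

end H2.FixedGen
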