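/-
The generation of fixed points, in the shape of the statement.
-/
import Cfsg.Agent.H2.FixedGen.Main

set_option autoImplicit false
set_option linter.unusedSectionVars false

open Subgroup
open scoped commutatorElement

namespace H2.FixedGen

universe u

variable {G : Type u} [Group G] [Finite G]

theorem iSup_fixed (hsol : ∀ Y : Subgroup G, Odd (Nat.card Y) → Group.IsSolvable Y)
    (A B Y : Subgroup G) (hA2 : IsPGroup 2 ↥A) (hAc : IsMulCommutative ↥A) (hB : B ≤ A)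
    (hY : Odd (Nat.card ↥Y)) (hAY : A ≤ normalizer (Y : Set G)) (hYA : ⁅Y, A⁆ = Y) :
    Y ⊓ centralizer (B : Set G) = ⨆ B₀ : {B₀ : Subgroup G //
        B₀ ≤ B ∧ ∀ [(B₀.subgroupOf B).Normal], IsCyclic (↥B ⧸ B₀.subgroupOf B)},
      Y ⊓ centralizer (B : Set G) ⊓ ⁅Y ⊓ centralizer ((B₀ : Subgroup G) : Set G), A⁆ := by
  have h : Setup A B Y :=
    ⟨hA2, fun a ha b hb => congrArg Subtype.val (hAc.is_comm.comm (⟨a, ha⟩ : A) ⟨b, hb⟩), hB, hY,
      hAY, hYA⟩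
  refine le_antisymm ((fixed_le h (hsol Y hY)).trans ((closure_le _).mpr ?_))
    (iSup_le fun K => inf_le_left)
  rintro x ⟨hxY, hxB, K, ⟨hKB, b, hb, hcyc⟩, hxW⟩
  have hK : ∀ [(K.subgroupOf B).Normal], IsCyclic (↥B ⧸ K.subgroupOf B) := by
    intro _
    refine ⟨(⟨b, hb⟩ : ↥B), fun q => ?_⟩
    induction q using QuotientGroup.induction_on with
    | _ y =>
      obtain ⟨i, hi⟩ := hcyc y y.2
      exact ⟨i, QuotientGroup.eq.mpr (mem_subgroupOf.mpr (by simpa using hi))⟩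
  exact le_iSup (fun B₀ : {B₀ : Subgroup G //
      B₀ ≤ B ∧ ∀ [(B₀.subgroupOf B).Normal], IsCyclic (↥B ⧸ B₀.subgroupOf B)} =>
    Y ⊓ centralizer (B : Set G) ⊓ ⁅Y ⊓ centralizer ((B₀ : Subgroup G) : Set G), A⁆)
    ⟨K, hKB, hK⟩ (Subgroup.mem_inf.mpr ⟨Subgroup.mem_inf.mpr ⟨hxY, hxB⟩, hxW⟩)

end H2.FixedGen
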